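import Mathlib
import Cfsg.Agent.H325.Same.ExcPairE

/-!
# Simple groups of Lie type in characteristic `p` whose order divides the order of an exceptional group over `p^f`
and is divisible by the primes of two classes (helper325)

`E_6`: {5,9}, {5,12}, {8,9}; `²E_6`: {8,18}, {10,12}, {10,18}; `E_7`: {7,18}, {9,14}; `E_8`: {20,24};
`³D_4`: {12}; `²F_4`: {6,12}.
-/

set_option autoImplicit false

namespace Cfsg.Agent.H325.Same

open Cfsg.Agent.OrdDiv Cfsg.Agent.H436 Cfsg.Agent.H915.GN Cfsg.Agent.H264.GN Cfsg.Agent.H264.FKS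

variable {p f c : ℕ} {g : Grp}

/-! ### hypotheses -/

/-- all primes `s` with `q = p^f` of order `e` modulo `s`, which do not divide the exponent of the field of the
group `g`, divide `c` -/
def HT (p f e : ℕ) (g : Grp) (c : ℕ) : Prop :=
  ∀ s, Prim (p ^ f) e s → (∀ f₁, fld g = p ^ f₁ → ¬ s ∣ f₁) → s ∣ c

theorem HT.mem {e f₁ s : ℕ} (h : HT p f e g c) (hp : p.Prime) (hfl : fld g = p ^ f₁) (hs : Prim (p ^ f) e s)
    (hn : ¬ s ∣ f₁) : s ∣ c :=
  h s hs fun f₂ h2 => by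
    rw [hfl] at h2
    rwa [← Nat.pow_right_injective hp.two_le h2]

theorem HT.big {e f₁ s i M : ℕ} (h : HT p f e g c) (hp : p.Prime) (hf : 1 ≤ f) (he : 1 ≤ e) (hfl : fld g = p ^ f₁)
    (hfM : f₁ * M = f * i) (hi : ∀ s, s.Prime → e < s → ¬ s ∣ i) (hs : Prim p (f * e) s) : s ∣ c := by
  refine h.mem hp hfl (prim_pow hf hs) fun hd => ?_
  have h1 : s ∣ f * i := hfM ▸ hd.mul_right M
  have h2 := lt_of_prim hs
  have h3 : f * 1 ≤ f * e := Nat.mul_le_mul_left _ he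
  have h4 : 1 * e ≤ f * e := Nat.mul_le_mul_right _ hf
  rcases hs.prime.dvd_mul.1 h1 with h5 | h5
  · have := Nat.le_of_dvd (by omega) h5
    omega
  · exact hi s hs.prime (by omega) h5

theorem compP {XT : ℕ → Prop} {MT aT e1 e2 f₁ : ℕ} (hp : p.Prime) (hf : 1 ≤ f) (hg : Cond g) (hch : HasChar p g)
    (hf₁ : 1 ≤ f₁) (hfl : fld g = p ^ f₁) (hK : KD p f₁ c (Xg g) (Yg g) (Mg g) (ag g)) (hY : Yg g (Mg g))
    (hT : TD p f c XT MT aT) (h7 : 7 ≤ e2) (h2 : MT < 2 * e2) (he : 5 ≤ e1 ∧ e1 ≠ 6)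
    (hpr : ∀ i, XT i → e2 ≤ i → ∀ s, s.Prime → e1 < s → ¬ s ∣ i)
    (hs1 : HT p f e1 g c) (hs2 : HT p f e2 g c) :
    ∃ i, XT i ∧ e2 ≤ i ∧ f₁ * Mg g = f * i ∧ ag g * i ≤ aT * Mg g ∧ (∃ x, Xg g x ∧ e1 * Mg g ∣ i * x) ∧
      (∃ x, Xg g x ∧ e2 * Mg g ∣ i * x) ∧
      (∀ k, (k = 4 ∨ k = 5 ∨ 7 ≤ k) → Yg g k → ∃ j, XT j ∧ i * k ∣ Mg g * j) := by
  have hM2 := two_le_Mg hg hch
  have hfe1 : 1 * e1 ≤ f * e1 := Nat.mul_le_mul_right _ hf
  have hfe2 : 1 * e2 ≤ f * e2 := Nat.mul_le_mul_right _ hf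
  have hb := f1_le2 hp hf hT hK hY hM2 h2.le (by omega)
  have hs2' : ∀ s, Prim p (f * e2) s → s ∣ c := fun s hs => by
    refine hs2.mem hp hfl (prim_pow hf hs) fun hd => ?_
    have h3 := lt_of_prim hs
    have := Nat.le_of_dvd (by omega) hd
    omega
  obtain ⟨i, hi, hei, hfM, ha, hX, hYc⟩ := comp2 hp hf hT hK hf₁ h7 h2 hs2' hY
  have h6 : ¬ (p = 2 ∧ f * e1 = 6) := by
    rintro ⟨-, h⟩
    have h8 : e1 ∣ 6 := ⟨f, by rw [← h, mul_comm]⟩
    have h9 := Nat.le_of_dvd (by norm_num) h8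
    have h10 : e1 = 5 := by omega
    rw [h10] at h8
    exact absurd h8 (by norm_num)
  refine ⟨i, hi, hei, hfM, ha, hX e1 (by omega) h6 (fun s hs => hs1.big hp hf (by omega) hfl hfM (hpr i hi hei) hs),
    hX e2 (by omega) (by omega) hs2', fun k hk hYk => hYc k hYk ?_ ?_⟩
  · have : 1 * k ≤ f₁ * k := Nat.mul_le_mul_right _ hf₁
    omega
  · rintro ⟨-, h⟩
    have h8 : k ∣ 6 := ⟨f₁, by rw [← h, mul_comm]⟩
    have h9 := Nat.le_of_dvd (by norm_num) h8
    rcases hk with rfl | rfl | hk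
    · exact absurd h8 (by norm_num)
    · exact absurd h8 (by norm_num)
    · omega

/-- the prime divisors of the exponents are small -/
theorem hpr_aux {i s : ℕ} (hi : i ∈ [9, 12, 18, 20, 24, 30]) (hs : s.Prime) (h : 5 < s) : ¬ s ∣ i := by
  intro hd
  simp only [List.mem_cons, List.not_mem_nil, or_false] at hi
  have h5 : s ≠ 5 := by omega
  have key : ∀ {j : ℕ}, s ∣ j → j = 2 ^ 3 * 3 ^ 2 * 5 → False := fun hj he => by
    subst he
    rcases hs.dvd_mul.1 hj with h1 | h1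
    · rcases hs.dvd_mul.1 h1 with h2 | h2
      · have := Nat.le_of_dvd (by norm_num) (hs.dvd_of_dvd_pow h2)
        omega
      · have := Nat.le_of_dvd (by norm_num) (hs.dvd_of_dvd_pow h2)
        omega
    · have := Nat.le_of_dvd (by norm_num) h1
      omega
  refine key (j := 360) (hd.trans ?_) (by norm_num)
  rcases hi with rfl | rfl | rfl | rfl | rfl | rfl <;> norm_num


/-- a prime `s` of order `5` modulo `q` does not divide the order of `²E_6(q)` -/
theorem not_dvd_te6_5 {q s : ℕ} (hs : Prim q 5 s) : ¬ s ∣ num (.te6 q) := by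
  intro h
  have h1 : s ∣ q ^ 36 * ((q ^ 2 - 1) * (q ^ 5 + 1) * (q ^ 6 - 1) * (q ^ 8 - 1) * (q ^ 9 + 1) * (q ^ 12 - 1)) := h
  rcases hs.prime.dvd_mul.1 h1 with h1 | h1
  · exact hs.not_dvd_pow _ h1
  rcases hs.prime.dvd_mul.1 h1 with h1 | h1
  · rcases hs.prime.dvd_mul.1 h1 with h1 | h1
    · rcases hs.prime.dvd_mul.1 h1 with h1 | h1
      · rcases hs.prime.dvd_mul.1 h1 with h1 | h1
        · rcases hs.prime.dvd_mul.1 h1 with h1 | h1
          · exact hs.not_dvd_sub (by norm_num) h1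
          · exact not_dvd_add_odd hs rfl (by norm_num) 5 h1
        · exact hs.not_dvd_sub (by norm_num) h1
      · exact hs.not_dvd_sub (by norm_num) h1
    · exact hs.not_dvd_add (by norm_num) h1
  · exact hs.not_dvd_sub (by norm_num) h1

theorem same_fld {f₁ M : ℕ} (hM : 0 < M) (h : f₁ * M = f * M) : f₁ = f := Nat.eq_of_mul_eq_mul_right hM h

/-- **`E_6(q)`, classes 5 and 9.** -/
theorem charp_e6_59 (hp : p.Prime) (hf : 1 ≤ f) (hg : Cond g) (hch : HasChar p g)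
    (hc : den g * c = num g) (hdvd : c ∣ num (.e6 (p ^ f))) (hs1 : HT p f 5 g c) (hs2 : HT p f 9 g c) :
    g = .e6 (p ^ f) := by
  obtain ⟨f₁, hf₁, hfl, hK, hY⟩ := kd_all hp hg hch hc
  obtain ⟨i, hi, hei, hfM, h2, h1, h3, hYc⟩ := compP hp hf hg hch hf₁ hfl hK hY (td_e6 hp hf hdvd)
    (by norm_num) (by norm_num) (by norm_num) (fun i hi hei s hs h5 => by
      have hi' : i ∈ [2, 5, 6, 8, 9, 12] := hi
      refine hpr_aux ?_ hs h5
      simp only [List.mem_cons, List.not_mem_nil, or_false] at hi' ⊢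
      omega) hs1 hs2
  rcases elimP_e6_5_9 hg hch hi hei h2 h1 h3 hYc with ⟨rfl, q, rfl⟩ | ⟨rfl, q, rfl⟩
  · exfalso
    obtain rfl : q = p ^ f₁ := hfl
    have h5 : f₁ * 18 = f * 9 := hfM
    have h6 : f = 2 * f₁ := by omega
    have hq₁ : 2 ≤ p ^ f₁ := hp.two_le.trans (Nat.le_self_pow (by omega) _)
    obtain ⟨s, hs0⟩ := exists_prim (q := p) (e := f₁ * 9) hp.two_le (by omega) (by omega)
    have hs := prim_pow hf₁ hs0
    have hlt : f₁ < s := by
      have := lt_of_prim hs0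
      omega
    have hs' : Prim (p ^ f) 9 s := by
      have := Cfsg.Agent.H425.Chr.prim_quot (f := 2) (by norm_num) hs
      rw [← pow_mul, mul_comm f₁ 2, ← h6] at this
      exact this
    have h7 := hs2.mem hp rfl hs' (fun h => by
      have := Nat.le_of_dvd (by omega) h
      omega)
    have h8 : s ∣ num (.te6 (p ^ f₁)) := by
      rw [← hc]
      exact h7.mul_left _
    exact not_dvd_te6 hs h8
  · obtain rfl : q = p ^ f₁ := hfl
    rw [same_fld (M := 12) (by norm_num) hfM]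

/-- **`E_6(q)`, classes 5 and 12.** -/
theorem charp_e6_512 (hp : p.Prime) (hf : 1 ≤ f) (hg : Cond g) (hch : HasChar p g)
    (hc : den g * c = num g) (hdvd : c ∣ num (.e6 (p ^ f))) (hs1 : HT p f 5 g c) (hs2 : HT p f 12 g c) :
    g = .e6 (p ^ f) := by
  obtain ⟨f₁, hf₁, hfl, hK, hY⟩ := kd_all hp hg hch hc
  obtain ⟨i, hi, hei, hfM, h2, h1, h3, hYc⟩ := compP hp hf hg hch hf₁ hfl hK hY (td_e6 hp hf hdvd)
    (by norm_num) (by norm_num) (by norm_num) (fun i hi hei s hs h5 => by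
      have hi' : i ∈ [2, 5, 6, 8, 9, 12] := hi
      refine hpr_aux ?_ hs h5
      simp only [List.mem_cons, List.not_mem_nil, or_false] at hi' ⊢
      omega) hs1 hs2
  rcases elimP_e6_5_12 hg hch hi hei h2 h1 h3 hYc with ⟨rfl, q, rfl⟩
  obtain rfl : q = p ^ f₁ := hfl
  rw [same_fld (M := 12) (by norm_num) hfM]

/-- **`E_6(q)`, classes 8 and 9.** -/
theorem charp_e6_89 (hp : p.Prime) (hf : 1 ≤ f) (hg : Cond g) (hch : HasChar p g)
    (hc : den g * c = num g) (hdvd : c ∣ num (.e6 (p ^ f))) (hs1 : HT p f 8 g c) (hs2 : HT p f 9 g c) :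
    g = .e6 (p ^ f) := by
  obtain ⟨f₁, hf₁, hfl, hK, hY⟩ := kd_all hp hg hch hc
  obtain ⟨i, hi, hei, hfM, h2, h1, h3, hYc⟩ := compP hp hf hg hch hf₁ hfl hK hY (td_e6 hp hf hdvd)
    (by norm_num) (by norm_num) (by norm_num) (fun i hi hei s hs h5 => by
      have hi' : i ∈ [2, 5, 6, 8, 9, 12] := hi
      refine hpr_aux ?_ hs (by omega)
      simp only [List.mem_cons, List.not_mem_nil, or_false] at hi' ⊢
      omega) hs1 hs2
  rcases elimP_e6_8_9 hg hch hi hei h2 h1 h3 hYc with ⟨rfl, q, rfl⟩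
  obtain rfl : q = p ^ f₁ := hfl
  rw [same_fld (M := 12) (by norm_num) hfM]

/-- **`²E_6(q)`, classes 8 and 18.** -/
theorem charp_te6_818 (hp : p.Prime) (hf : 1 ≤ f) (hg : Cond g) (hch : HasChar p g)
    (hc : den g * c = num g) (hdvd : c ∣ num (.te6 (p ^ f))) (hs1 : HT p f 8 g c) (hs2 : HT p f 18 g c) :
    g = .te6 (p ^ f) := by
  obtain ⟨f₁, hf₁, hfl, hK, hY⟩ := kd_all hp hg hch hc
  obtain ⟨i, hi, hei, hfM, h2, h1, h3, hYc⟩ := compP hp hf hg hch hf₁ hfl hK hY (td_te6 hp hf hdvd)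
    (by norm_num) (by norm_num) (by norm_num) (fun i hi hei s hs h5 => by
      have hi' : i ∈ [2, 10, 6, 8, 18, 12] := hi
      refine hpr_aux ?_ hs (by omega)
      simp only [List.mem_cons, List.not_mem_nil, or_false] at hi' ⊢
      omega) hs1 hs2
  rcases elimP_te6_8_18 hg hch hi hei h2 h1 h3 hYc with ⟨rfl, q, rfl⟩
  obtain rfl : q = p ^ f₁ := hfl
  rw [same_fld (M := 18) (by norm_num) hfM]

/-- **`²E_6(q)`, classes 10 and 18.** -/
theorem charp_te6_1018 (hp : p.Prime) (hf : 1 ≤ f) (hg : Cond g) (hch : HasChar p g)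
    (hc : den g * c = num g) (hdvd : c ∣ num (.te6 (p ^ f))) (hs1 : HT p f 10 g c) (hs2 : HT p f 18 g c) :
    g = .te6 (p ^ f) := by
  obtain ⟨f₁, hf₁, hfl, hK, hY⟩ := kd_all hp hg hch hc
  obtain ⟨i, hi, hei, hfM, h2, h1, h3, hYc⟩ := compP hp hf hg hch hf₁ hfl hK hY (td_te6 hp hf hdvd)
    (by norm_num) (by norm_num) (by norm_num) (fun i hi hei s hs h5 => by
      have hi' : i ∈ [2, 10, 6, 8, 18, 12] := hi
      refine hpr_aux ?_ hs (by omega)
      simp only [List.mem_cons, List.not_mem_nil, or_false] at hi' ⊢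
      omega) hs1 hs2
  rcases elimP_te6_10_18 hg hch hi hei h2 h1 h3 hYc with ⟨rfl, q, rfl⟩
  obtain rfl : q = p ^ f₁ := hfl
  rw [same_fld (M := 18) (by norm_num) hfM]

/-- **`²E_6(q)`, classes 10 and 12.** -/
theorem charp_te6_1012 (hp : p.Prime) (hf : 1 ≤ f) (hg : Cond g) (hch : HasChar p g)
    (hc : den g * c = num g) (hdvd : c ∣ num (.te6 (p ^ f))) (hs1 : HT p f 10 g c) (hs2 : HT p f 12 g c) :
    g = .te6 (p ^ f) := by
  obtain ⟨f₁, hf₁, hfl, hK, hY⟩ := kd_all hp hg hch hc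
  obtain ⟨i, hi, hei, hfM, h2, h1, h3, hYc⟩ := compP hp hf hg hch hf₁ hfl hK hY (td_te6 hp hf hdvd)
    (by norm_num) (by norm_num) (by norm_num) (fun i hi hei s hs h5 => by
      have hi' : i ∈ [2, 10, 6, 8, 18, 12] := hi
      refine hpr_aux ?_ hs (by omega)
      simp only [List.mem_cons, List.not_mem_nil, or_false] at hi' ⊢
      omega) hs1 hs2
  have hq : 2 ≤ p ^ f := hp.two_le.trans (Nat.le_self_pow (by omega) _)
  obtain ⟨s, hs0⟩ := exists_prim (q := p ^ f) (e := 5) hq (by norm_num) (by omega)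
  have hn : ¬ s ∣ c := fun h => not_dvd_te6_5 hs0 (h.trans hdvd)
  rcases elimP_te6_10_12 hg hch hi hei h2 h1 h3 hYc with ⟨rfl, q, rfl⟩ | ⟨rfl, q, rfl⟩ | ⟨rfl, q, rfl⟩ |
    ⟨rfl, q, rfl⟩ | ⟨rfl, q, rfl⟩
  · obtain rfl : q = p ^ f₁ := hfl
    rw [same_fld (M := 18) (by norm_num) hfM]
  · exfalso
    obtain rfl : q = p ^ f₁ := hfl
    have h5 : f₁ * 6 = f * 12 := hfM
    have h6 := Cfsg.Agent.H425.Chr.prim_quot (f := 2) (by norm_num) hs0
    rw [← pow_mul, show f * 2 = f₁ by omega] at h6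
    exact hn (psl_prim (e := 5) (by norm_num) (by norm_num) hc h6)
  · exfalso
    obtain rfl : q = p ^ f₁ := hfl
    have h5 : f₁ * (2 * 6) = f * 12 := hfM
    obtain rfl : f₁ = f := by omega
    exact hn (psp_prim (e := 5) 5 (by norm_num) (by norm_num) (by norm_num) (by norm_num) hc hs0)
  · exfalso
    obtain rfl : q = p ^ f₁ := hfl
    have h5 : f₁ * (2 * 6) = f * 12 := hfM
    obtain rfl : f₁ = f := by omega
    exact hn (oodd_prim (e := 5) 5 (by norm_num) (by norm_num) (by norm_num) (by norm_num) hc hs0)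
  · exfalso
    obtain rfl : q = p ^ f₁ := hfl
    have h5 : f₁ * (2 * 6) = f * 12 := hfM
    obtain rfl : f₁ = f := by omega
    exact hn (ominus_prim 5 (by norm_num) (by norm_num) (by norm_num) (by norm_num) hc hs0)

/-- **`E_8(q)`, classes 20 and 24.** -/
theorem charp_e8_2024 (hp : p.Prime) (hf : 1 ≤ f) (hg : Cond g) (hch : HasChar p g)
    (hc : den g * c = num g) (hdvd : c ∣ num (.e8 (p ^ f))) (hs1 : HT p f 20 g c) (hs2 : HT p f 24 g c) :
    g = .e8 (p ^ f) := by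
  obtain ⟨f₁, hf₁, hfl, hK, hY⟩ := kd_all hp hg hch hc
  obtain ⟨i, hi, hei, hfM, h2, h1, h3, hYc⟩ := compP hp hf hg hch hf₁ hfl hK hY (td_e8 hp hf hdvd)
    (by norm_num) (by norm_num) (by norm_num) (fun i hi hei s hs h5 => by
      have hi' : i ∈ [2, 8, 12, 14, 18, 20, 24, 30] := hi
      refine hpr_aux ?_ hs (by omega)
      simp only [List.mem_cons, List.not_mem_nil, or_false] at hi' ⊢
      omega) hs1 hs2
  rcases elimP_e8_20_24 hg hch hi hei h2 h1 h3 hYc with ⟨rfl, q, rfl⟩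
  obtain rfl : q = p ^ f₁ := hfl
  rw [same_fld (M := 30) (by norm_num) hfM]

/-- a prime of odd order `e ≥ 11 / 2` modulo `q` does not divide the order of `U_9(q)`, `U_10(q)` -/
theorem not_dvd_u {q s e n : ℕ} (hs : Prim q e s) (he : e % 2 = 1) (he3 : 2 ≤ e) (hn : n < 2 * e) (a : ℕ) :
    ¬ s ∣ q ^ a * prU q n := by
  intro h
  rcases hs.prime.dvd_mul.1 h with h1 | h1
  · exact hs.not_dvd_pow _ h1
  unfold prU at h1
  rw [prod_list, Prime.dvd_finsetProd_iff hs.prime.prime] at h1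
  obtain ⟨i, hi, hd⟩ := h1
  rw [Finset.mem_range] at hi
  rcases Nat.even_or_odd i with h2 | h2
  · have h3 : i % 2 = 0 := Nat.even_iff.1 h2
    rw [if_pos (by rw [h3]; rfl)] at hd
    exact not_dvd_add_odd hs he he3 _ hd
  · have h3 : i % 2 = 1 := Nat.odd_iff.1 h2
    rw [if_neg (by rw [h3]; decide), hs.dvd_iff] at hd
    obtain ⟨k, hk⟩ := hd
    rcases Nat.lt_or_ge k 2 with h4 | h4
    · interval_cases k
      · omega
      · omega
    · have : e * 2 ≤ e * k := Nat.mul_le_mul_left _ h4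
      omega

theorem kill_u {n e f₁ : ℕ} (hp : p.Prime) (hf : 1 ≤ f) (he : e % 2 = 1) (he3 : 2 ≤ e) (hn : n < 2 * e)
    (h1 : f₁ = f) (hc : den (.psu n (p ^ f₁)) * c = num (.psu n (p ^ f₁))) (hs : HT p f e (.psu n (p ^ f₁)) c)
    (he5 : 5 ≤ e) : False := by
  subst h1
  obtain ⟨s, hs0⟩ := exists_prim (q := p) (e := f₁ * e) hp.two_le (by nlinarith) (by
    rintro ⟨-, h⟩
    have h8 : e ∣ 6 := ⟨f₁, by rw [← h, mul_comm]⟩
    have h9 := Nat.le_of_dvd (by norm_num) h8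
    interval_cases e
    · exact absurd h8 (by norm_num)
    · omega)
  have hs' := prim_pow hf hs0
  have h2 := hs.mem hp rfl hs' fun h => by
    have h3 := lt_of_prim hs0
    have h4 := Nat.le_of_dvd hf h
    nlinarith
  have h3 : s ∣ num (.psu n (p ^ f₁)) := by
    rw [← hc]
    exact h2.mul_left _
  exact not_dvd_u hs' he he3 hn _ h3

theorem hpr_e7 {i s : ℕ} (hi : i ∈ [14, 18]) (hs : s.Prime) (h : 7 < s) : ¬ s ∣ i := by
  simp only [List.mem_cons, List.not_mem_nil, or_false] at hi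
  rcases hi with rfl | rfl
  · intro hd
    rcases hs.dvd_mul.1 (show s ∣ 2 * 7 from hd) with h1 | h1
    · have := Nat.le_of_dvd (by norm_num) h1
      omega
    · have := Nat.le_of_dvd (by norm_num) h1
      omega
  · exact hpr_aux (by decide) hs (by omega)

/-- **`E_7(q)`, classes 7 and 18.** -/
theorem charp_e7_718 (hp : p.Prime) (hf : 1 ≤ f) (hg : Cond g) (hch : HasChar p g)
    (hc : den g * c = num g) (hdvd : c ∣ num (.e7 (p ^ f))) (hs1 : HT p f 7 g c) (hs2 : HT p f 18 g c) :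
    g = .e7 (p ^ f) := by
  obtain ⟨f₁, hf₁, hfl, hK, hY⟩ := kd_all hp hg hch hc
  obtain ⟨i, hi, hei, hfM, h2, h1, h3, hYc⟩ := compP hp hf hg hch hf₁ hfl hK hY (td_e7 hp hf hdvd)
    (by norm_num) (by norm_num) (by norm_num) (fun i hi hei s hs h5 => by
      have hi' : i ∈ [2, 6, 8, 10, 12, 14, 18] := hi
      refine hpr_e7 ?_ hs (by omega)
      simp only [List.mem_cons, List.not_mem_nil, or_false] at hi' ⊢
      omega) hs1 hs2
  rcases elimP_e7_7_18 hg hch hi hei h2 h1 h3 hYc with ⟨rfl, q, rfl⟩ | ⟨rfl, q, rfl⟩ | ⟨rfl, q, rfl⟩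
  · exfalso
    obtain rfl : q = p ^ f₁ := hfl
    exact kill_u hp hf rfl (by norm_num) (by norm_num) (same_fld (M := 18) (by norm_num) hfM) hc hs1 (by norm_num)
  · exfalso
    obtain rfl : q = p ^ f₁ := hfl
    exact kill_u hp hf rfl (by norm_num) (by norm_num) (same_fld (M := 18) (by norm_num) hfM) hc hs1 (by norm_num)
  · obtain rfl : q = p ^ f₁ := hfl
    rw [same_fld (M := 18) (by norm_num) hfM]

/-- **`E_7(q)`, classes 9 and 14.** -/
theorem charp_e7_914 (hp : p.Prime) (hf : 1 ≤ f) (hg : Cond g) (hch : HasChar p g)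
    (hc : den g * c = num g) (hdvd : c ∣ num (.e7 (p ^ f))) (hs1 : HT p f 9 g c) (hs2 : HT p f 14 g c) :
    g = .e7 (p ^ f) := by
  obtain ⟨f₁, hf₁, hfl, hK, hY⟩ := kd_all hp hg hch hc
  obtain ⟨i, hi, hei, hfM, h2, h1, h3, hYc⟩ := compP hp hf hg hch hf₁ hfl hK hY (td_e7 hp hf hdvd)
    (by norm_num) (by norm_num) (by norm_num) (fun i hi hei s hs h5 => by
      have hi' : i ∈ [2, 6, 8, 10, 12, 14, 18] := hi
      refine hpr_e7 ?_ hs (by omega)
      simp only [List.mem_cons, List.not_mem_nil, or_false] at hi' ⊢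
      omega) hs1 hs2
  rcases elimP_e7_9_14 hg hch hi hei h2 h1 h3 hYc with ⟨rfl, q, rfl⟩ | ⟨rfl, q, rfl⟩ | ⟨rfl, q, rfl⟩
  · exfalso
    obtain rfl : q = p ^ f₁ := hfl
    exact kill_u hp hf rfl (by norm_num) (by norm_num) (same_fld (M := 18) (by norm_num) hfM) hc hs1 (by norm_num)
  · exfalso
    obtain rfl : q = p ^ f₁ := hfl
    exact kill_u hp hf rfl (by norm_num) (by norm_num) (same_fld (M := 18) (by norm_num) hfM) hc hs1 (by norm_num)
  · obtain rfl : q = p ^ f₁ := hfl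
    rw [same_fld (M := 18) (by norm_num) hfM]

end Cfsg.Agent.H325.Same
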