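import Mathlib
import Cfsg.Agent.H325.Same.ExcTw

/-!
# `F_4(q)`, classes 8 and 12, and `G_2(q)`, classes 3 and 6 (helper325)

`charp_f4`: only `F_4(q)`, `L_3(q^4)`; `charp_g2`: only `G_2(q)`, `L_2(q^3)`, and `Sz(8)` for `q = 4`.
-/

set_option autoImplicit false

namespace Cfsg.Agent.H325.Same

open Cfsg.Agent.OrdDiv Cfsg.Agent.H436 Cfsg.Agent.H915.GN Cfsg.Agent.H264.GN Cfsg.Agent.H264.FKS

variable {p f c : ℕ} {g : Grp}

theorem elimP_f4_8_12 (hg : Cond g) (hch : HasChar p g) {i : ℕ} (hi : i ∈ [2, 6, 8, 12]) (hei : 12 ≤ i)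
    (h2 : ag g * i ≤ 24 * Mg g) (h1 : ∃ x, Xg g x ∧ 8 * Mg g ∣ i * x) (h3 : ∃ x, Xg g x ∧ 12 * Mg g ∣ i * x)
    (hY : ∀ k, (k = 4 ∨ k = 5 ∨ 7 ≤ k) → Yg g k → ∃ j, j ∈ [2, 6, 8, 12] ∧ i * k ∣ Mg g * j) :
    (i = 12 ∧ ∃ q, g = .psl 3 q) ∨ (i = 12 ∧ ∃ q, g = .psp 3 q) ∨ (i = 12 ∧ ∃ q, g = .oodd 3 q) ∨ (i = 12 ∧ ∃ q, g = .psu 4 q) ∨ (i = 12 ∧ ∃ q, g = .oplus 4 q) ∨ (i = 12 ∧ ∃ q, g = .f4 q) := by
  obtain ⟨x, hx, hxd⟩ := h1
  obtain ⟨y, hy, hyd⟩ := h3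
  have hi2 : i = 12 := by
    simp only [List.mem_cons, List.not_mem_nil, or_false] at hi
    omega
  clear hi hei
  rcases hi2 with rfl
  · have h2' : 2 * ag g ≤ 4 * Mg g := by omega
    clear h2
    cases g
    case psl m q =>
      obtain ⟨hm, -, -⟩ := hg
      have hb := bd_psl (ρ := 4) (by omega) h2'
      have hx' : 1 ≤ x ∧ x ≤ m := hx
      have hy' : 1 ≤ y ∧ y ≤ m := hy
      have hxd' : 8 * m ∣ 12 * x := hxd
      have hyd' : 12 * m ∣ 12 * y := hyd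
      clear hx hy hxd hyd h2' hch hY
      interval_cases m <;> first | omega | exact Or.inl ⟨rfl, q, rfl⟩ | exact Or.inr (Or.inl ⟨rfl, q, rfl⟩) | exact Or.inr (Or.inr (Or.inl ⟨rfl, q, rfl⟩)) | exact Or.inr (Or.inr (Or.inr (Or.inl ⟨rfl, q, rfl⟩))) | exact Or.inr (Or.inr (Or.inr (Or.inr (Or.inl ⟨rfl, q, rfl⟩)))) | exact Or.inr (Or.inr (Or.inr (Or.inr (Or.inr (⟨rfl, q, rfl⟩)))))
    case psp m q =>
      obtain ⟨hm, -, -⟩ := hg
      have hb := bd_psp (ρ := 4) (by omega) h2'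
      have hx' : 1 ≤ x ∧ x ≤ 2 * m ∧ 2 ∣ x := hx
      have hy' : 1 ≤ y ∧ y ≤ 2 * m ∧ 2 ∣ y := hy
      have hxd' : 8 * (2 * m) ∣ 12 * x := hxd
      have hyd' : 12 * (2 * m) ∣ 12 * y := hyd
      clear hx hy hxd hyd h2' hch hY
      interval_cases m <;> first | omega | exact Or.inl ⟨rfl, q, rfl⟩ | exact Or.inr (Or.inl ⟨rfl, q, rfl⟩) | exact Or.inr (Or.inr (Or.inl ⟨rfl, q, rfl⟩)) | exact Or.inr (Or.inr (Or.inr (Or.inl ⟨rfl, q, rfl⟩))) | exact Or.inr (Or.inr (Or.inr (Or.inr (Or.inl ⟨rfl, q, rfl⟩)))) | exact Or.inr (Or.inr (Or.inr (Or.inr (Or.inr (⟨rfl, q, rfl⟩)))))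
    case oodd m q =>
      obtain ⟨hm, -, -⟩ := hg
      have hb := bd_psp (ρ := 4) (by omega) h2'
      have hx' : 1 ≤ x ∧ x ≤ 2 * m ∧ 2 ∣ x := hx
      have hy' : 1 ≤ y ∧ y ≤ 2 * m ∧ 2 ∣ y := hy
      have hxd' : 8 * (2 * m) ∣ 12 * x := hxd
      have hyd' : 12 * (2 * m) ∣ 12 * y := hyd
      clear hx hy hxd hyd h2' hch hY
      interval_cases m <;> first | omega | exact Or.inl ⟨rfl, q, rfl⟩ | exact Or.inr (Or.inl ⟨rfl, q, rfl⟩) | exact Or.inr (Or.inr (Or.inl ⟨rfl, q, rfl⟩)) | exact Or.inr (Or.inr (Or.inr (Or.inl ⟨rfl, q, rfl⟩))) | exact Or.inr (Or.inr (Or.inr (Or.inr (Or.inl ⟨rfl, q, rfl⟩)))) | exact Or.inr (Or.inr (Or.inr (Or.inr (Or.inr (⟨rfl, q, rfl⟩)))))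
    case psu m q =>
      obtain ⟨hm, -, -⟩ := hg
      have hb := bd_psu (ρ := 4) hm h2'
      have hx' : (1 ≤ x ∧ x ≤ m ∧ 2 ∣ x) ∨ ∃ j, x = 2 * j ∧ j ≤ m ∧ j % 2 = 1 := hx
      have hy' : (1 ≤ y ∧ y ≤ m ∧ 2 ∣ y) ∨ ∃ j, y = 2 * j ∧ j ≤ m ∧ j % 2 = 1 := hy
      obtain ⟨k, hk⟩ : ∃ k, k = (if m % 2 = 0 then m - 1 else m) := ⟨_, rfl⟩
      have hk' : (m % 2 = 0 ∧ k = m - 1) ∨ (m % 2 = 1 ∧ k = m) := by
        rw [hk]
        split_ifs <;> omega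
      have hM : Mg (.psu m q) = 2 * k := by rw [hk]; rfl
      have hxd' : 8 * (2 * k) ∣ 12 * x := hM ▸ hxd
      have hyd' : 12 * (2 * k) ∣ 12 * y := hM ▸ hyd
      clear hx hy hxd hyd h2' hch hY hM hk
      rcases hk' with ⟨hk1, hk2⟩ | ⟨hk1, hk2⟩ <;> rcases hx' with hx' | ⟨j, rfl, hx'⟩ <;>
        rcases hy' with hy' | ⟨l, rfl, hy'⟩ <;> interval_cases m <;> subst hk2 <;> first | omega | exact Or.inl ⟨rfl, q, rfl⟩ | exact Or.inr (Or.inl ⟨rfl, q, rfl⟩) | exact Or.inr (Or.inr (Or.inl ⟨rfl, q, rfl⟩)) | exact Or.inr (Or.inr (Or.inr (Or.inl ⟨rfl, q, rfl⟩))) | exact Or.inr (Or.inr (Or.inr (Or.inr (Or.inl ⟨rfl, q, rfl⟩)))) | exact Or.inr (Or.inr (Or.inr (Or.inr (Or.inr (⟨rfl, q, rfl⟩)))))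
    case oplus m q =>
      obtain ⟨hm, -⟩ := hg
      have hb := bd_oplus (ρ := 4) (by omega) h2'
      have hx' : 1 ≤ x ∧ x ≤ 2 * (m - 1) ∧ (2 ∣ x ∨ x = m) := hx
      have hy' : 1 ≤ y ∧ y ≤ 2 * (m - 1) ∧ (2 ∣ y ∨ y = m) := hy
      have hxd' : 8 * (2 * (m - 1)) ∣ 12 * x := hxd
      have hyd' : 12 * (2 * (m - 1)) ∣ 12 * y := hyd
      clear hx hy hxd hyd h2' hch hY
      interval_cases m <;> first | omega | exact Or.inl ⟨rfl, q, rfl⟩ | exact Or.inr (Or.inl ⟨rfl, q, rfl⟩) | exact Or.inr (Or.inr (Or.inl ⟨rfl, q, rfl⟩)) | exact Or.inr (Or.inr (Or.inr (Or.inl ⟨rfl, q, rfl⟩))) | exact Or.inr (Or.inr (Or.inr (Or.inr (Or.inl ⟨rfl, q, rfl⟩)))) | exact Or.inr (Or.inr (Or.inr (Or.inr (Or.inr (⟨rfl, q, rfl⟩)))))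
    case ominus m q =>
      obtain ⟨hm, -⟩ := hg
      have hb := bd_ominus (ρ := 4) (by omega) h2'
      have hx' : 1 ≤ x ∧ x ≤ 2 * m ∧ 2 ∣ x := hx
      have hy' : 1 ≤ y ∧ y ≤ 2 * m ∧ 2 ∣ y := hy
      have hxd' : 8 * (2 * m) ∣ 12 * x := hxd
      have hyd' : 12 * (2 * m) ∣ 12 * y := hyd
      clear hx hy hxd hyd h2' hch hY
      interval_cases m <;> first | omega | exact Or.inl ⟨rfl, q, rfl⟩ | exact Or.inr (Or.inl ⟨rfl, q, rfl⟩) | exact Or.inr (Or.inr (Or.inl ⟨rfl, q, rfl⟩)) | exact Or.inr (Or.inr (Or.inr (Or.inl ⟨rfl, q, rfl⟩))) | exact Or.inr (Or.inr (Or.inr (Or.inr (Or.inl ⟨rfl, q, rfl⟩)))) | exact Or.inr (Or.inr (Or.inr (Or.inr (Or.inr (⟨rfl, q, rfl⟩)))))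
    case g2 q =>
      have hx' : x ∈ [2, 6] := hx
      have hy' : y ∈ [2, 6] := hy
      have hxd' : 8 * 6 ∣ 12 * x := hxd
      have hyd' : 12 * 6 ∣ 12 * y := hyd
      have h4 : 2 * 6 ≤ 4 * 6 := h2'
      simp only [List.mem_cons, List.not_mem_nil, or_false] at hx' hy'
      clear hx hy hxd hyd h2' hch hY
      first | omega | exact Or.inl ⟨rfl, q, rfl⟩ | exact Or.inr (Or.inl ⟨rfl, q, rfl⟩) | exact Or.inr (Or.inr (Or.inl ⟨rfl, q, rfl⟩)) | exact Or.inr (Or.inr (Or.inr (Or.inl ⟨rfl, q, rfl⟩))) | exact Or.inr (Or.inr (Or.inr (Or.inr (Or.inl ⟨rfl, q, rfl⟩)))) | exact Or.inr (Or.inr (Or.inr (Or.inr (Or.inr (⟨rfl, q, rfl⟩)))))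
    case f4 q =>
      have hx' : x ∈ [2, 6, 8, 12] := hx
      have hy' : y ∈ [2, 6, 8, 12] := hy
      have hxd' : 8 * 12 ∣ 12 * x := hxd
      have hyd' : 12 * 12 ∣ 12 * y := hyd
      have h4 : 2 * 24 ≤ 4 * 12 := h2'
      simp only [List.mem_cons, List.not_mem_nil, or_false] at hx' hy'
      clear hx hy hxd hyd h2' hch hY
      first | omega | exact Or.inl ⟨rfl, q, rfl⟩ | exact Or.inr (Or.inl ⟨rfl, q, rfl⟩) | exact Or.inr (Or.inr (Or.inl ⟨rfl, q, rfl⟩)) | exact Or.inr (Or.inr (Or.inr (Or.inl ⟨rfl, q, rfl⟩))) | exact Or.inr (Or.inr (Or.inr (Or.inr (Or.inl ⟨rfl, q, rfl⟩)))) | exact Or.inr (Or.inr (Or.inr (Or.inr (Or.inr (⟨rfl, q, rfl⟩)))))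
    case e6 q =>
      have hx' : x ∈ [2, 5, 6, 8, 9, 12] := hx
      have hy' : y ∈ [2, 5, 6, 8, 9, 12] := hy
      have hxd' : 8 * 12 ∣ 12 * x := hxd
      have hyd' : 12 * 12 ∣ 12 * y := hyd
      have h4 : 2 * 36 ≤ 4 * 12 := h2'
      simp only [List.mem_cons, List.not_mem_nil, or_false] at hx' hy'
      clear hx hy hxd hyd h2' hch hY
      first | omega | exact Or.inl ⟨rfl, q, rfl⟩ | exact Or.inr (Or.inl ⟨rfl, q, rfl⟩) | exact Or.inr (Or.inr (Or.inl ⟨rfl, q, rfl⟩)) | exact Or.inr (Or.inr (Or.inr (Or.inl ⟨rfl, q, rfl⟩))) | exact Or.inr (Or.inr (Or.inr (Or.inr (Or.inl ⟨rfl, q, rfl⟩)))) | exact Or.inr (Or.inr (Or.inr (Or.inr (Or.inr (⟨rfl, q, rfl⟩)))))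
    case e7 q =>
      have hx' : x ∈ [2, 6, 8, 10, 12, 14, 18] := hx
      have hy' : y ∈ [2, 6, 8, 10, 12, 14, 18] := hy
      have hxd' : 8 * 18 ∣ 12 * x := hxd
      have hyd' : 12 * 18 ∣ 12 * y := hyd
      have h4 : 2 * 63 ≤ 4 * 18 := h2'
      simp only [List.mem_cons, List.not_mem_nil, or_false] at hx' hy'
      clear hx hy hxd hyd h2' hch hY
      first | omega | exact Or.inl ⟨rfl, q, rfl⟩ | exact Or.inr (Or.inl ⟨rfl, q, rfl⟩) | exact Or.inr (Or.inr (Or.inl ⟨rfl, q, rfl⟩)) | exact Or.inr (Or.inr (Or.inr (Or.inl ⟨rfl, q, rfl⟩))) | exact Or.inr (Or.inr (Or.inr (Or.inr (Or.inl ⟨rfl, q, rfl⟩)))) | exact Or.inr (Or.inr (Or.inr (Or.inr (Or.inr (⟨rfl, q, rfl⟩)))))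
    case e8 q =>
      have hx' : x ∈ [2, 8, 12, 14, 18, 20, 24, 30] := hx
      have hy' : y ∈ [2, 8, 12, 14, 18, 20, 24, 30] := hy
      have hxd' : 8 * 30 ∣ 12 * x := hxd
      have hyd' : 12 * 30 ∣ 12 * y := hyd
      have h4 : 2 * 120 ≤ 4 * 30 := h2'
      simp only [List.mem_cons, List.not_mem_nil, or_false] at hx' hy'
      clear hx hy hxd hyd h2' hch hY
      first | omega | exact Or.inl ⟨rfl, q, rfl⟩ | exact Or.inr (Or.inl ⟨rfl, q, rfl⟩) | exact Or.inr (Or.inr (Or.inl ⟨rfl, q, rfl⟩)) | exact Or.inr (Or.inr (Or.inr (Or.inl ⟨rfl, q, rfl⟩))) | exact Or.inr (Or.inr (Or.inr (Or.inr (Or.inl ⟨rfl, q, rfl⟩)))) | exact Or.inr (Or.inr (Or.inr (Or.inr (Or.inr (⟨rfl, q, rfl⟩)))))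
    case te6 q =>
      have hx' : x ∈ [2, 10, 6, 8, 18, 12] := hx
      have hy' : y ∈ [2, 10, 6, 8, 18, 12] := hy
      have hxd' : 8 * 18 ∣ 12 * x := hxd
      have hyd' : 12 * 18 ∣ 12 * y := hyd
      have h4 : 2 * 36 ≤ 4 * 18 := h2'
      obtain ⟨j, hj, hjd⟩ := hY 8 (by norm_num) (show 8 ∈ [2, 3, 4, 6, 8, 10, 12, 18] by decide)
      have hjd' : 12 * 8 ∣ 18 * j := hjd
      simp only [List.mem_cons, List.not_mem_nil, or_false] at hj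
      simp only [List.mem_cons, List.not_mem_nil, or_false] at hx' hy'
      clear hx hy hxd hyd h2' hch hY
      first | omega | exact Or.inl ⟨rfl, q, rfl⟩ | exact Or.inr (Or.inl ⟨rfl, q, rfl⟩) | exact Or.inr (Or.inr (Or.inl ⟨rfl, q, rfl⟩)) | exact Or.inr (Or.inr (Or.inr (Or.inl ⟨rfl, q, rfl⟩))) | exact Or.inr (Or.inr (Or.inr (Or.inr (Or.inl ⟨rfl, q, rfl⟩)))) | exact Or.inr (Or.inr (Or.inr (Or.inr (Or.inr (⟨rfl, q, rfl⟩)))))
    case td4 q =>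
      have hx' : x ∈ [2, 6, 12] := hx
      have hy' : y ∈ [2, 6, 12] := hy
      have hxd' : 8 * 12 ∣ 12 * x := hxd
      have hyd' : 12 * 12 ∣ 12 * y := hyd
      have h4 : 2 * 12 ≤ 4 * 12 := h2'
      simp only [List.mem_cons, List.not_mem_nil, or_false] at hx' hy'
      clear hx hy hxd hyd h2' hch hY
      first | omega | exact Or.inl ⟨rfl, q, rfl⟩ | exact Or.inr (Or.inl ⟨rfl, q, rfl⟩) | exact Or.inr (Or.inr (Or.inl ⟨rfl, q, rfl⟩)) | exact Or.inr (Or.inr (Or.inr (Or.inl ⟨rfl, q, rfl⟩))) | exact Or.inr (Or.inr (Or.inr (Or.inr (Or.inl ⟨rfl, q, rfl⟩)))) | exact Or.inr (Or.inr (Or.inr (Or.inr (Or.inr (⟨rfl, q, rfl⟩)))))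
    case sz q =>
      have hx' : x ∈ [1, 4] := hx
      have hy' : y ∈ [1, 4] := hy
      have hxd' : 8 * 4 ∣ 12 * x := hxd
      have hyd' : 12 * 4 ∣ 12 * y := hyd
      have h4 : 2 * 2 ≤ 4 * 4 := h2'
      simp only [List.mem_cons, List.not_mem_nil, or_false] at hx' hy'
      clear hx hy hxd hyd h2' hch hY
      first | omega | exact Or.inl ⟨rfl, q, rfl⟩ | exact Or.inr (Or.inl ⟨rfl, q, rfl⟩) | exact Or.inr (Or.inr (Or.inl ⟨rfl, q, rfl⟩)) | exact Or.inr (Or.inr (Or.inr (Or.inl ⟨rfl, q, rfl⟩))) | exact Or.inr (Or.inr (Or.inr (Or.inr (Or.inl ⟨rfl, q, rfl⟩)))) | exact Or.inr (Or.inr (Or.inr (Or.inr (Or.inr (⟨rfl, q, rfl⟩)))))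
    case ree q =>
      have hx' : x ∈ [1, 6] := hx
      have hy' : y ∈ [1, 6] := hy
      have hxd' : 8 * 6 ∣ 12 * x := hxd
      have hyd' : 12 * 6 ∣ 12 * y := hyd
      have h4 : 2 * 3 ≤ 4 * 6 := h2'
      simp only [List.mem_cons, List.not_mem_nil, or_false] at hx' hy'
      clear hx hy hxd hyd h2' hch hY
      first | omega | exact Or.inl ⟨rfl, q, rfl⟩ | exact Or.inr (Or.inl ⟨rfl, q, rfl⟩) | exact Or.inr (Or.inr (Or.inl ⟨rfl, q, rfl⟩)) | exact Or.inr (Or.inr (Or.inr (Or.inl ⟨rfl, q, rfl⟩))) | exact Or.inr (Or.inr (Or.inr (Or.inr (Or.inl ⟨rfl, q, rfl⟩)))) | exact Or.inr (Or.inr (Or.inr (Or.inr (Or.inr (⟨rfl, q, rfl⟩)))))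
    case tf4 q =>
      have hx' : x ∈ [1, 6, 4, 12] := hx
      have hy' : y ∈ [1, 6, 4, 12] := hy
      have hxd' : 8 * 12 ∣ 12 * x := hxd
      have hyd' : 12 * 12 ∣ 12 * y := hyd
      have h4 : 2 * 12 ≤ 4 * 12 := h2'
      simp only [List.mem_cons, List.not_mem_nil, or_false] at hx' hy'
      clear hx hy hxd hyd h2' hch hY
      first | omega | exact Or.inl ⟨rfl, q, rfl⟩ | exact Or.inr (Or.inl ⟨rfl, q, rfl⟩) | exact Or.inr (Or.inr (Or.inl ⟨rfl, q, rfl⟩)) | exact Or.inr (Or.inr (Or.inr (Or.inl ⟨rfl, q, rfl⟩))) | exact Or.inr (Or.inr (Or.inr (Or.inr (Or.inl ⟨rfl, q, rfl⟩)))) | exact Or.inr (Or.inr (Or.inr (Or.inr (Or.inr (⟨rfl, q, rfl⟩)))))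
    all_goals exact absurd hch not_false


theorem td_f4 (hp : p.Prime) (hf : 1 ≤ f) (h : c ∣ num (.f4 (p ^ f))) :
    TD p f c (Xg (.f4 (p ^ f))) 12 24 := by
  have h1 : c ∣ (p ^ f) ^ 24 * (((p ^ f) ^ 2 - 1) * ((p ^ f) ^ 6 - 1) * ((p ^ f) ^ 8 - 1) * ((p ^ f) ^ 12 - 1)) := h
  refine td_list hp hf [2, 6, 8, 12] (by decide) ?_ h1
  simp only [List.map_cons, List.map_nil, List.prod_cons, List.prod_nil, mul_one, mul_assoc, dvd_refl]

theorem td_g2 (hp : p.Prime) (hf : 1 ≤ f) (h : c ∣ num (.g2 (p ^ f))) :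
    TD p f c (Xg (.g2 (p ^ f))) 6 6 := by
  have h1 : c ∣ (p ^ f) ^ 6 * (((p ^ f) ^ 2 - 1) * ((p ^ f) ^ 6 - 1)) := h
  refine td_list hp hf [2, 6] (by decide) ?_ h1
  simp only [List.map_cons, List.map_nil, List.prod_cons, List.prod_nil, mul_one, dvd_refl]


theorem prB_three' (p f : ℕ) : prB (p ^ (f * 2)) 3 =
    ((p ^ f) ^ 4 - 1) * (((p ^ f) ^ 8 - 1) * ((p ^ f) ^ 12 - 1)) := by
  rw [prB_eq, Finset.prod_range_succ, Finset.prod_range_succ, Finset.prod_range_succ, Finset.prod_range_zero,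
    pow_mul p f 2, ← pow_mul, ← pow_mul, ← pow_mul]
  norm_num only [one_mul]
  ring

/-- cancellation, with a prime -/
theorem cancel_prime {D A B Z c x y s : ℕ} (hs : s.Prime) (hZ : 0 < Z) (hc : 0 < c) (h1 : D * c = A * (x * Z))
    (h2 : c ∣ B * (y * Z)) (hx : s ∣ x) (hD : ¬ s ∣ D) (hB : ¬ s ∣ B) (hy : ¬ s ∣ y) : False := by
  rcases hs.dvd_mul.1 (hx.trans (cancel_dvd hZ hc h1 h2)) with h | h
  · rcases hs.dvd_mul.1 h with h | h
    · exact hD h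
    · exact hB h
  · exact hy h

theorem pos_of_dvd {T : ℕ} (hT : 0 < T) (h : c ∣ T) : 0 < c := Nat.pos_of_dvd_of_pos h hT

/-- **`F_4(q)`, classes 8 and 12.** -/
theorem charp_f4 (hp : p.Prime) (hf : 1 ≤ f) (hg : Cond g) (hch : HasChar p g)
    (hc : den g * c = num g) (hdvd : c ∣ num (.f4 (p ^ f))) (hs1 : HT p f 8 g c) (hs2 : HT p f 12 g c) :
    g = .f4 (p ^ f) ∨ g = .psl 3 (p ^ (4 * f)) := by
  obtain ⟨f₁, hf₁, hfl, hK, hY⟩ := kd_all hp hg hch hc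
  obtain ⟨i, hi, hei, hfM, h2, h1, h3, hYc⟩ := compP hp hf hg hch hf₁ hfl hK hY (td_f4 hp hf hdvd)
    (by norm_num) (by norm_num) (by norm_num) (fun i hi hei s hs h5 => by
      have hi' : i ∈ [2, 6, 8, 12] := hi
      refine hpr_aux ?_ hs (by omega)
      simp only [List.mem_cons, List.not_mem_nil, or_false] at hi' ⊢
      omega) hs1 hs2
  have hq : 2 ≤ p ^ f := hp.two_le.trans (Nat.le_self_pow (by omega) _)
  obtain ⟨s, hs4⟩ := exists_prim (q := p ^ f) (e := 4) hq (by norm_num) (by omega)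
  have hd : c ∣ (p ^ f) ^ 24 * (((p ^ f) ^ 2 - 1) * ((p ^ f) ^ 6 - 1) * ((p ^ f) ^ 8 - 1) * ((p ^ f) ^ 12 - 1)) := hdvd
  have b2 := sub_pos' (d := 2) hq (by norm_num)
  have b4 := sub_pos' (d := 4) hq (by norm_num)
  have b6 := sub_pos' (d := 6) hq (by norm_num)
  have b8 := sub_pos' (d := 8) hq (by norm_num)
  have b12 := sub_pos' (d := 12) hq (by norm_num)
  have hc0 : 0 < c := pos_of_dvd (by positivity) hd
  have hy : ¬ s ∣ ((p ^ f) ^ 2 - 1) * ((p ^ f) ^ 6 - 1) := fun h => by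
    rcases hs4.prime.dvd_mul.1 h with h | h
    · exact hs4.not_dvd_sub (by norm_num) h
    · exact hs4.not_dvd_sub (by norm_num) h
  have hs5 : 5 ≤ s := by
    have := lt_of_prim hs4
    omega
  have hx : s ∣ (p ^ f) ^ 4 - 1 := hs4.dvd dvd_rfl
  rcases elimP_f4_8_12 hg hch hi hei h2 h1 h3 hYc with ⟨rfl, q, rfl⟩ | ⟨rfl, q, rfl⟩ | ⟨rfl, q, rfl⟩ |
    ⟨rfl, q, rfl⟩ | ⟨rfl, q, rfl⟩ | ⟨rfl, q, rfl⟩
  · right
    obtain rfl : q = p ^ f₁ := hfl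
    have h5 : f₁ * 3 = f * 12 := hfM
    obtain rfl : f₁ = 4 * f := by omega
    rfl
  · exfalso
    obtain rfl : q = p ^ f₁ := hfl
    have h5 : f₁ * (2 * 3) = f * 12 := hfM
    obtain rfl : f₁ = f * 2 := by omega
    have h6 : Nat.gcd 2 (p ^ (f * 2) - 1) * c = (p ^ (f * 2)) ^ (3 ^ 2) * prB (p ^ (f * 2)) 3 := hc
    refine cancel_prime hs4.prime (Z := ((p ^ f) ^ 8 - 1) * ((p ^ f) ^ 12 - 1)) (by positivity) hc0
      (A := (p ^ (f * 2)) ^ (3 ^ 2)) (x := (p ^ f) ^ 4 - 1) (D := Nat.gcd 2 (p ^ (f * 2) - 1)) (B := (p ^ f) ^ 24) ?_ ?_ hx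
      (fun h => ?_) (hs4.not_dvd_pow _) hy
    · rw [h6, prB_three']
    · exact hd.trans (dvd_of_eq (by ring))
    · have := Nat.le_of_dvd (by norm_num) (h.trans (Nat.gcd_dvd_left _ _))
      omega
  · exfalso
    obtain rfl : q = p ^ f₁ := hfl
    have h5 : f₁ * (2 * 3) = f * 12 := hfM
    obtain rfl : f₁ = f * 2 := by omega
    have h6 : 2 * c = (p ^ (f * 2)) ^ (3 ^ 2) * prB (p ^ (f * 2)) 3 := hc
    refine cancel_prime hs4.prime (Z := ((p ^ f) ^ 8 - 1) * ((p ^ f) ^ 12 - 1)) (by positivity) hc0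
      (A := (p ^ (f * 2)) ^ (3 ^ 2)) (x := (p ^ f) ^ 4 - 1) (D := 2) (B := (p ^ f) ^ 24) ?_ ?_ hx
      (fun h => ?_) (hs4.not_dvd_pow _) hy
    · rw [h6, prB_three']
    · exact hd.trans (dvd_of_eq (by ring))
    · have := Nat.le_of_dvd (by norm_num) h
      omega
  · exfalso
    obtain rfl : q = p ^ f₁ := hfl
    have h5 : f₁ * 6 = f * 12 := hfM
    obtain rfl : f₁ = f * 2 := by omega
    have h6 : Nat.gcd 4 (p ^ (f * 2) + 1) * (p ^ (f * 2) + 1) * c =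
        (p ^ (f * 2)) ^ (4 * (4 - 1) / 2) * prU (p ^ (f * 2)) 4 := hc
    have hU : prU (p ^ (f * 2)) 4 = ((p ^ (f * 2)) ^ 1 + 1) * (((p ^ (f * 2)) ^ 2 - 1) * (((p ^ (f * 2)) ^ 3 + 1) *
      (((p ^ (f * 2)) ^ 4 - 1) * 1))) := rfl
    have e1 : (p ^ (f * 2)) ^ 2 = (p ^ f) ^ 4 := by rw [pow_mul, ← pow_mul]
    have e2 : (p ^ (f * 2)) ^ 4 = (p ^ f) ^ 8 := by rw [pow_mul, ← pow_mul]
    have e3 : (p ^ (f * 2)) ^ 3 = (p ^ f) ^ 6 := by rw [pow_mul, ← pow_mul]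
    rw [hU, e1, e2, e3, pow_one, mul_one] at h6
    refine cancel_prime hs4.prime (Z := ((p ^ f) ^ 8 - 1) * ((p ^ f) ^ 6 + 1)) (by positivity) hc0
      (A := (p ^ (f * 2)) ^ (4 * (4 - 1) / 2)) (x := (p ^ f) ^ 4 - 1) (D := Nat.gcd 4 (p ^ (f * 2) + 1))
      (B := (p ^ f) ^ 24) (y := ((p ^ f) ^ 2 - 1) * ((p ^ f) ^ 6 - 1) * ((p ^ f) ^ 6 - 1)) ?_ ?_ hx
      (fun h => ?_) (hs4.not_dvd_pow _) (fun h => ?_)
    · apply Nat.eq_of_mul_eq_mul_left (show 0 < p ^ (f * 2) + 1 by omega)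
      calc (p ^ (f * 2) + 1) * (Nat.gcd 4 (p ^ (f * 2) + 1) * c)
          = Nat.gcd 4 (p ^ (f * 2) + 1) * (p ^ (f * 2) + 1) * c := by ring
        _ = _ := h6
        _ = _ := by ring
    · have h7 : (p ^ f) ^ 12 - 1 = ((p ^ f) ^ 6 - 1) * ((p ^ f) ^ 6 + 1) := by
        have := Nat.sq_sub_sq ((p ^ f) ^ 6) 1
        rw [one_pow, ← pow_mul] at this
        rw [mul_comm]
        exact this
      rw [h7] at hd
      refine hd.trans (dvd_of_eq ?_)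
      ring
    · have := Nat.le_of_dvd (by norm_num) (h.trans (Nat.gcd_dvd_left _ _))
      omega
    · rcases hs4.prime.dvd_mul.1 h with h | h
      · exact hy h
      · exact hs4.not_dvd_sub (by norm_num) h
  · exfalso
    obtain rfl : q = p ^ f₁ := hfl
    have h5 : f₁ * (2 * (4 - 1)) = f * 12 := hfM
    obtain rfl : f₁ = f * 2 := by omega
    have h6 : Nat.gcd 4 ((p ^ (f * 2)) ^ 4 - 1) * c =
        (p ^ (f * 2)) ^ (4 * (4 - 1)) * (((p ^ (f * 2)) ^ 4 - 1) * prB (p ^ (f * 2)) (4 - 1)) := hc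
    refine cancel_prime hs4.prime (Z := ((p ^ f) ^ 8 - 1) * ((p ^ f) ^ 12 - 1)) (by positivity) hc0
      (A := (p ^ (f * 2)) ^ (4 * (4 - 1)) * ((p ^ (f * 2)) ^ 4 - 1)) (x := (p ^ f) ^ 4 - 1)
      (D := Nat.gcd 4 ((p ^ (f * 2)) ^ 4 - 1)) (B := (p ^ f) ^ 24) ?_ ?_ hx
      (fun h => ?_) (hs4.not_dvd_pow _) hy
    · rw [h6, mul_assoc]
      congr 2
      show prB (p ^ (f * 2)) 3 = _
      rw [prB_three']
    · exact hd.trans (dvd_of_eq (by ring))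
    · have := Nat.le_of_dvd (by norm_num) (h.trans (Nat.gcd_dvd_left _ _))
      omega
  · left
    obtain rfl : q = p ^ f₁ := hfl
    rw [same_fld (M := 12) (by norm_num) hfM]


/-- candidates for `G_2`, top class only -/
def OutG2 : Grp → Prop
  | .psl m _ => m = 2 ∨ m = 3
  | .psp m _ => m = 2
  | .psu m _ => m = 3 ∨ m = 4 ∨ m = 5
  | .g2 _ => True
  | .td4 _ => True
  | .tf4 _ => True
  | .sz _ => True
  | .ree _ => True
  | _ => False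

theorem elimT_g2 (hg : Cond g) (hch : HasChar p g) (h2 : 2 * ag g ≤ 2 * Mg g) : OutG2 g := by
  cases g
  case psl m q =>
    obtain ⟨hm, -, -⟩ := hg
    have hb := bd_psl (ρ := 2) (by omega) h2
    show m = 2 ∨ m = 3
    omega
  case psp m q =>
    obtain ⟨hm, -, -⟩ := hg
    have hb := bd_psp (ρ := 2) (by omega) h2
    show m = 2
    omega
  case psu m q =>
    obtain ⟨hm, -, -⟩ := hg
    have hb := bd_psu (ρ := 2) hm h2
    show m = 3 ∨ m = 4 ∨ m = 5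
    omega
  case oodd m q =>
    exfalso
    obtain ⟨hm, -, -⟩ := hg
    have hb := bd_psp (ρ := 2) (by omega) h2
    omega
  case oplus m q =>
    exfalso
    obtain ⟨hm, -⟩ := hg
    have hb := bd_oplus (ρ := 2) (by omega) h2
    omega
  case ominus m q =>
    exfalso
    obtain ⟨hm, -⟩ := hg
    have hb := bd_ominus (ρ := 2) (by omega) h2
    omega
  case g2 q => exact trivial
  case td4 q => exact trivial
  case tf4 q => exact trivial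
  case sz q => exact trivial
  case ree q => exact trivial
  case f4 q =>
    have h : 2 * 24 ≤ 2 * 12 := h2
    omega
  case e6 q =>
    have h : 2 * 36 ≤ 2 * 12 := h2
    omega
  case e7 q =>
    have h : 2 * 63 ≤ 2 * 18 := h2
    omega
  case e8 q =>
    have h : 2 * 120 ≤ 2 * 30 := h2
    omega
  case te6 q =>
    have h : 2 * 36 ≤ 2 * 18 := h2
    omega
  all_goals exact absurd hch not_false

theorem not_dvd_g2 {q e s : ℕ} (hs : Prim q e s) (he : e = 4 ∨ e = 12) : ¬ s ∣ num (.g2 q) := by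
  intro h
  have h1 : s ∣ q ^ 6 * ((q ^ 2 - 1) * (q ^ 6 - 1)) := h
  rcases hs.prime.dvd_mul.1 h1 with h1 | h1
  · exact hs.not_dvd_pow _ h1
  rcases hs.prime.dvd_mul.1 h1 with h1 | h1
  · rcases he with rfl | rfl
    · exact hs.not_dvd_sub (by norm_num) h1
    · exact hs.not_dvd_sub (by norm_num) h1
  · rcases he with rfl | rfl
    · exact hs.not_dvd_sub (by norm_num) h1
    · exact hs.not_dvd_sub (by norm_num) h1

/-- **`G_2(q)`, `q ≥ 3`, classes 3 and 6.** -/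
theorem charp_g2 (hp : p.Prime) (hf : 1 ≤ f) (h21 : ¬ (p = 2 ∧ f = 1)) (hg : Cond g) (hch : HasChar p g)
    (hc : den g * c = num g) (hdvd : c ∣ num (.g2 (p ^ f))) (hs3 : HT p f 3 g c) (hs6 : HT p f 6 g c) :
    g = .g2 (p ^ f) ∨ g = .psl 2 (p ^ (3 * f)) ∨ (p = 2 ∧ f = 2 ∧ g = .sz 8) := by
  obtain ⟨f₁, hf₁, hfl, hK, hY⟩ := kd_all hp hg hch hc
  have hT := td_g2 hp hf hdvd
  have hM2 := two_le_Mg hg hch
  have hb := f1_le hp hf₁ hT hK hY hM2 (by omega)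
  obtain ⟨hfM, h2, -, -⟩ := comp hp hf hf₁ hT hK (by omega) (by omega) (fun s h => by
    refine hs6.mem hp hfl (prim_pow hf h) fun hd => ?_
    have h3 := lt_of_prim h
    have := Nat.le_of_dvd (by omega) hd
    omega) hY (by
    intro hp2 h6 h5
    omega)
  have hO := elimT_g2 hg hch (by omega)
  have hq : 2 ≤ p ^ f := hp.two_le.trans (Nat.le_self_pow (by omega) _)
  have b1 : 0 < p ^ f - 1 := by omega
  have b2 := sub_pos' (d := 2) hq (by norm_num)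
  have b3 := sub_pos' (d := 3) hq (by norm_num)
  have b6 := sub_pos' (d := 6) hq (by norm_num)
  have hd : c ∣ (p ^ f) ^ 6 * (((p ^ f) ^ 2 - 1) * ((p ^ f) ^ 6 - 1)) := hdvd
  have hc0 : 0 < c := pos_of_dvd (by positivity) hd
  obtain ⟨t, ht3⟩ := exists_prim (q := p ^ f) (e := 3) hq (by norm_num) (by omega)
  obtain ⟨s, hs4⟩ := exists_prim (q := p ^ f) (e := 4) hq (by norm_num) (by omega)
  have hn : ¬ s ∣ c := fun h => not_dvd_g2 hs4 (Or.inl rfl) (h.trans hdvd)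
  cases g
  case psl m q =>
    have hO' : m = 2 ∨ m = 3 := hO
    obtain rfl : q = p ^ f₁ := hfl
    rcases hO' with rfl | rfl
    · right; left
      have h5 : f₁ * 2 = f * 6 := hfM
      obtain rfl : f₁ = 3 * f := by omega
      rfl
    · exfalso
      have h5 : f₁ * 3 = f * 6 := hfM
      obtain rfl : f₁ = f * 2 := by omega
      exact hn (mq_dvd' hs4 (by norm_num) (psl_mq le_rfl (hp.two_le.trans (Nat.le_self_pow (by omega) _)) hc))
  case psp m q =>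
    exfalso
    obtain rfl : m = 2 := hO
    obtain rfl : q = p ^ f₁ := hfl
    have h5 : f₁ * (2 * 2) = f * 6 := hfM
    have h6 : Nat.gcd 2 (p ^ f₁ - 1) * c = (p ^ f₁) ^ (2 ^ 2) * prB (p ^ f₁) 2 := hc
    have e1 : (p ^ f₁) ^ 2 = (p ^ f) ^ 3 := sq_eq (k := 1) (by omega)
    have e2 : (p ^ f₁) ^ 4 = (p ^ f) ^ 6 := sq_eq (k := 2) (by omega)
    have h7 : prB (p ^ f₁) 2 = ((p ^ f₁) ^ 2 - 1) * ((p ^ f₁) ^ 4 - 1) := by
      rw [prB_eq, Finset.prod_range_succ, Finset.prod_range_succ, Finset.prod_range_zero]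
      norm_num only [one_mul]
    rw [h7, e1, e2] at h6
    exact cancel_prime ht3.prime b6 hc0 h6 hd (ht3.dvd dvd_rfl) (fun h => ht3.not_dvd_two le_rfl
      (h.trans (Nat.gcd_dvd_left _ _))) (ht3.not_dvd_pow _) (ht3.not_dvd_sub (by norm_num))
  case psu m q =>
    exfalso
    have hO' : m = 3 ∨ m = 4 ∨ m = 5 := hO
    obtain rfl : q = p ^ f₁ := hfl
    rcases hO' with rfl | rfl | rfl
    · have h5 : f₁ * 6 = f * 6 := hfM
      obtain rfl : f₁ = f := by omega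
      obtain ⟨r, hr, hrf⟩ : ∃ r, Prim (p ^ f₁) 3 r ∧ ¬ r ∣ f₁ := by
        by_cases h8 : p = 2 ∧ f₁ * 3 = 6
        · obtain ⟨rfl, h9⟩ := h8
          obtain rfl : f₁ = 2 := by omega
          refine ⟨t, ht3, fun h => ?_⟩
          exact ht3.not_dvd_two le_rfl h
        · obtain ⟨r, hr⟩ := exists_prim (q := p) (e := f₁ * 3) hp.two_le (by omega) h8
          refine ⟨r, prim_pow hf hr, fun h => ?_⟩
          have := lt_of_prim hr
          have := Nat.le_of_dvd (by omega) h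
          omega
      have h6 := hs3.mem hp rfl hr hrf
      have h7 : r ∣ num (.psu 3 (p ^ f₁)) := by
        rw [← hc]
        exact h6.mul_left _
      exact not_dvd_u (e := 3) hr rfl (by norm_num) (by norm_num) _ h7
    · have h5 : f₁ * 6 = f * 6 := hfM
      obtain rfl : f₁ = f := by omega
      obtain ⟨r, hr⟩ := exists_prim (q := p) (e := f₁ * 4) hp.two_le (by omega) (by omega)
      have h6 : r ∣ c := hK.has (show 3 ≤ 4 ∧ ((4 ≤ 4 ∧ 4 % 2 = 0) ∨ ∃ j, 4 = 2 * j ∧ j ≤ 4 ∧ j % 2 = 1) from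
        ⟨by norm_num, Or.inl ⟨le_rfl, rfl⟩⟩) (by omega) hr
      exact not_dvd_g2 (prim_pow hf hr) (Or.inl rfl) (h6.trans hdvd)
    · have h5 : f₁ * 10 = f * 6 := hfM
      obtain ⟨k, rfl⟩ : ∃ k, f = 5 * k := ⟨f / 5, by omega⟩
      obtain rfl : f₁ = 3 * k := by omega
      obtain ⟨r, hr⟩ := exists_prim (q := p) (e := 3 * k * 4) hp.two_le (by omega) (by omega)
      have h6 : r ∣ c := hK.has (show 3 ≤ 4 ∧ ((4 ≤ 5 ∧ 4 % 2 = 0) ∨ ∃ j, 4 = 2 * j ∧ j ≤ 5 ∧ j % 2 = 1) from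
        ⟨by norm_num, Or.inl ⟨by norm_num, rfl⟩⟩) (by omega) hr
      have h7 := Cfsg.Agent.H425.Chr.prim_quot (f := 5 * k) (by omega) hr
      have h8 : 3 * k * 4 / Nat.gcd (3 * k * 4) (5 * k) = 12 := by
        rw [show 3 * k * 4 = 12 * k by ring, Nat.gcd_mul_right, Nat.mul_div_mul_right _ _ (by omega)]
        norm_num
      rw [h8] at h7
      exact not_dvd_g2 h7 (Or.inr rfl) (h6.trans hdvd)
  case g2 q =>
    left
    obtain rfl : q = p ^ f₁ := hfl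
    rw [same_fld (M := 6) (by norm_num) hfM]
  case td4 q =>
    exfalso
    obtain rfl : q = p ^ f₁ := hfl
    have h5 : f₁ * 12 = f * 6 := hfM
    obtain rfl : f = f₁ * 2 := by omega
    have h6 : 1 * c = (p ^ f₁) ^ 12 * (((p ^ f₁) ^ 2 - 1) * ((p ^ f₁) ^ 6 - 1) * ((p ^ f₁) ^ 8 + (p ^ f₁) ^ 4 + 1)) := hc
    have e1 : (p ^ f₁) ^ 2 = p ^ (f₁ * 2) := by rw [pow_mul]
    have e2 : (p ^ f₁) ^ 6 = (p ^ (f₁ * 2)) ^ 3 := by rw [← pow_mul, ← pow_mul]; congr 1; ring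
    have e3 : (p ^ f₁) ^ 8 = (p ^ (f₁ * 2)) ^ 4 := by rw [← pow_mul, ← pow_mul]; congr 1; ring
    have e4 : (p ^ f₁) ^ 4 = (p ^ (f₁ * 2)) ^ 2 := by rw [← pow_mul, ← pow_mul]; congr 1; ring
    rw [e1, e2, e3, e4] at h6
    generalize p ^ (f₁ * 2) = Q at *
    have h7 : Q ^ 2 - 1 = (Q + 1) * (Q - 1) := by
      have := Nat.sq_sub_sq Q 1
      rwa [one_pow] at this
    have h8 : Q ^ 6 - 1 = (Q ^ 3 + 1) * (Q ^ 3 - 1) := by
      have := Nat.sq_sub_sq (Q ^ 3) 1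
      rwa [one_pow, ← pow_mul] at this
    have h9 : Q ^ 6 - 1 = (Q ^ 4 + Q ^ 2 + 1) * (Q ^ 2 - 1) := by
      obtain ⟨a, ha⟩ : ∃ a, Q ^ 2 = a + 1 := ⟨Q ^ 2 - 1, by omega⟩
      have h10 : Q ^ 6 = (a + 1) ^ 3 := by rw [← ha]; ring
      have h11 : Q ^ 4 = (a + 1) ^ 2 := by rw [← ha]; ring
      rw [h10, h11, ha, Nat.add_sub_cancel]
      have : (a + 1) ^ 3 = ((a + 1) ^ 2 + (a + 1) + 1) * a + 1 := by ring
      omega
    refine cancel_prime ht3.prime (Z := (Q - 1) * (Q ^ 3 - 1)) (by positivity) hc0 (D := 1)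
      (A := (p ^ f₁) ^ 12) (x := Q ^ 4 + Q ^ 2 + 1) (B := Q ^ 6) (y := (Q + 1) * (Q ^ 3 + 1)) ?_ ?_ ?_
      (fun h => ?_) (ht3.not_dvd_pow _) (fun h => ?_)
    · rw [h6]; ring
    · refine hd.trans (dvd_of_eq ?_)
      rw [h7, h8]; ring
    · have h12 : t ∣ Q ^ 6 - 1 := ht3.dvd (by norm_num)
      rw [h9] at h12
      exact (ht3.prime.dvd_mul.1 h12).resolve_right (ht3.not_dvd_sub (by norm_num))
    · exact ht3.prime.one_lt.ne' (Nat.dvd_one.1 h)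
    · rcases ht3.prime.dvd_mul.1 h with h | h
      · exact ht3.not_dvd_qadd le_rfl h
      · exact not_dvd_add_odd ht3 rfl (by norm_num) 3 h
  case tf4 q =>
    exfalso
    obtain rfl : q = p ^ f₁ := hfl
    have h5 : f₁ * 12 = f * 6 := hfM
    obtain rfl : f = f₁ * 2 := by omega
    obtain ⟨m, hm, hqm⟩ : ∃ m, 1 ≤ m ∧ p ^ f₁ = 2 ^ (2 * m + 1) := hg
    have hp2 : p = 2 := by
      have h4 : p ∣ 2 ^ (2 * m + 1) := by
        rw [← hqm]
        exact dvd_pow_self p (by omega)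
      exact (Nat.prime_dvd_prime_iff_eq hp Nat.prime_two).1 (hp.dvd_of_dvd_pow h4)
    subst hp2
    have hfm : f₁ = 2 * m + 1 := Nat.pow_right_injective (le_refl 2) hqm
    obtain ⟨r, hr⟩ := exists_prim (q := 2) (e := f₁ * 3) le_rfl (by omega) (by omega)
    have hr1 := prim_pow hf₁ hr
    have hr2 := Cfsg.Agent.H425.Chr.prim_quot (f := 2) (by norm_num) hr1
    rw [← pow_mul] at hr2
    have h6 := hs3.mem hp rfl hr2 fun h => by
      have := lt_of_prim hr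
      have := Nat.le_of_dvd (by omega) h
      omega
    have h7 : r ∣ num (.tf4 (2 ^ f₁)) := by
      rw [← hc]
      exact h6.mul_left _
    exact not_dvd_tf4 hr1 h7
  case sz q =>
    obtain rfl : q = p ^ f₁ := hfl
    have h5 : f₁ * 4 = f * 6 := hfM
    obtain ⟨m, hm, hqm⟩ : ∃ m, 1 ≤ m ∧ p ^ f₁ = 2 ^ (2 * m + 1) := hg
    have hp2 : p = 2 := by
      have h4 : p ∣ 2 ^ (2 * m + 1) := by
        rw [← hqm]
        exact dvd_pow_self p (by omega)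
      exact (Nat.prime_dvd_prime_iff_eq hp Nat.prime_two).1 (hp.dvd_of_dvd_pow h4)
    subst hp2
    have hfm : f₁ = 2 * m + 1 := Nat.pow_right_injective (le_refl 2) hqm
    obtain ⟨k, rfl⟩ : ∃ k, f = 2 * k := ⟨f / 2, by omega⟩
    obtain rfl : f₁ = 3 * k := by omega
    by_cases hk1 : k = 1
    · subst hk1
      right; right
      exact ⟨rfl, rfl, rfl⟩
    · exfalso
      obtain ⟨r, hr⟩ := exists_prim (q := 2) (e := 2 * k * 3) le_rfl (by omega) (by omega)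
      have hr2 := prim_pow hf hr
      have h6 := hs3.mem hp rfl hr2 fun h => by
        have := lt_of_prim hr
        have := Nat.le_of_dvd (by omega) h
        omega
      have h7 : 1 * c = (2 ^ (3 * k)) ^ 2 * ((2 ^ (3 * k) - 1) * ((2 ^ (3 * k)) ^ 2 + 1)) := hc
      rw [one_mul] at h7
      rw [h7] at h6
      have h8 : Prim (2 ^ (3 * k)) 2 r := by
        rw [show 2 * k * 3 = 3 * k * 2 by ring] at hr
        exact prim_pow hf₁ hr
      rcases hr.prime.dvd_mul.1 h6 with h9 | h9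
      · exact h8.not_dvd_pow _ h9
      · rcases hr.prime.dvd_mul.1 h9 with h9 | h9
        · rw [← pow_one (2 ^ (3 * k)), h8.dvd_iff] at h9
          exact absurd h9 (by norm_num)
        · have h10 : r ∣ (2 ^ (3 * k)) ^ 2 - 1 := h8.dvd dvd_rfl
          have h11 := Nat.dvd_sub h9 h10
          have h12 : 1 ≤ (2 ^ (3 * k)) ^ 2 := Nat.one_le_pow _ _ (by positivity)
          rw [show (2 ^ (3 * k)) ^ 2 + 1 - ((2 ^ (3 * k)) ^ 2 - 1) = 2 by omega] at h11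
          exact hr2.not_dvd_two le_rfl h11
  case ree q =>
    exfalso
    obtain rfl : q = p ^ f₁ := hfl
    have h5 : f₁ * 6 = f * 6 := hfM
    obtain rfl : f₁ = f := by omega
    obtain ⟨m, hm, hqm⟩ : ∃ m, 1 ≤ m ∧ p ^ f₁ = 3 ^ (2 * m + 1) := hg
    have hp3 : p = 3 := by
      have h4 : p ∣ 3 ^ (2 * m + 1) := by
        rw [← hqm]
        exact dvd_pow_self p (by omega)
      exact (Nat.prime_dvd_prime_iff_eq hp Nat.prime_three).1 (hp.dvd_of_dvd_pow h4)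
    subst hp3
    obtain ⟨r, hr⟩ := exists_prim (q := 3) (e := f₁ * 3) (by norm_num) (by omega) (by omega)
    have hr1 := prim_pow hf₁ hr
    have h6 := hs3.mem hp rfl hr1 fun h => by
      have := lt_of_prim hr
      have := Nat.le_of_dvd (by omega) h
      omega
    have h7 : 1 * c = (3 ^ f₁) ^ 3 * ((3 ^ f₁ - 1) * ((3 ^ f₁) ^ 3 + 1)) := hc
    rw [one_mul] at h7
    rw [h7] at h6
    rcases hr.prime.dvd_mul.1 h6 with h9 | h9
    · exact hr1.not_dvd_pow _ h9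
    · rcases hr.prime.dvd_mul.1 h9 with h9 | h9
      · exact hr1.not_dvd_qsub le_rfl h9
      · exact not_dvd_add_odd hr1 rfl (by norm_num) 3 h9
  all_goals exact absurd hO not_false

end Cfsg.Agent.H325.Same
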