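import Mathlib
import Cfsg.Agent.S1163
import Cfsg.Agent.H264.FKS.Rows
import Cfsg.Agent.H325.IsoExc
import Cfsg.Agent.H325.Same.ExcF4
import Cfsg.Agent.H325.Same.KillPSL

/-!
# Almost simple subgroups `R` of `T = G2(q), F4(q), 3D4(q), 2F4(q)` with socle of Lie type in the characteristic of `T`
and `π(R) = π(T)`: `R = T` (helper325)
-/

set_option autoImplicit false

namespace Cfsg.Agent.H325.Same

open Cfsg Cfsg.Agent.OrdDiv Cfsg.Agent.H436 Cfsg.Agent.H915.GN Cfsg.Agent.H264.GN Cfsg.Agent.H264.FKS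
open Cfsg.Agent.H325.Loc

universe u

variable {p f : ℕ} {g : Grp}

/-! ### kills -/

theorem charP_of_card {F : Type*} [Field F] [Fintype F] (hp : p.Prime) {k : ℕ} (h : Fintype.card F = p ^ k) :
    CharP F p := by
  have : Fact p.Prime := ⟨hp⟩
  exact charP_of_card_eq_prime_pow h

theorem kill_psl2 {S : Type*} [Group S] {r : ℕ} (hp : p.Prime) (hS : IsNamed (.psl 2 (p ^ (3 * f))) S)
    (hr : Prim (p ^ f) 3 r) (hP : PIso p r S) : False := by
  have : Fact p.Prime := ⟨hp⟩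
  obtain ⟨F, _, _, hF, ⟨e⟩⟩ := hS.real
  have := charP_of_card hp hF
  refine not_piso_psl2 (K := F) (p := p) hr.prime (fun h => hr.not_dvd_two le_rfl (by rw [h])) ?_ (hP.congr e)
  rw [Nat.card_eq_fintype_card, hF, mul_comm, pow_mul]
  exact hr.dvd dvd_rfl

theorem kill_psl3 {S : Type*} [Group S] {r : ℕ} (hp : p.Prime) (hS : IsNamed (.psl 3 (p ^ (4 * f))) S)
    (hr : Prim (p ^ f) 8 r) (hP : PIso p r S) : False := by
  have : Fact p.Prime := ⟨hp⟩
  obtain ⟨F, _, _, hF, ⟨e⟩⟩ := hS.real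
  have := charP_of_card hp hF
  refine not_piso_psl3 (K := F) (p := p) hr.prime ?_ ?_ (hP.congr e)
  · rw [Nat.card_eq_fintype_card, hF, mul_comm, pow_mul, ← pow_mul (p ^ f)]
    exact hr.dvd dvd_rfl
  · rw [Nat.card_eq_fintype_card, hF, mul_comm, pow_mul]
    exact hr.not_dvd_sub (by norm_num)

theorem sz_not_piso {F : Type*} [Field F] [Fintype F] {m : ℕ} (hm : 1 ≤ m) (hF : Fintype.card F = 2 ^ (2 * m + 1))
    {r : ℕ} (hr : r ∣ 2 ^ (2 * m + 1) - 1) : ¬ PIso 2 r ↥(Cfsg.Lie.Sz F (2 ^ (m + 1))) := by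
  intro hP
  obtain ⟨hcard, P, hN, -, -, -⟩ := Cfsg.Agent.S1163.result hm hF
  have h2 : 2 ∣ 2 ^ (2 * m + 1) := dvd_pow_self 2 (by omega)
  refine hP (P : Subgroup _) P.isPGroup' (P.ne_bot_of_dvd_card ?_) ?_
  · rw [hcard, mul_assoc]
    exact (dvd_pow h2 (by norm_num)).mul_right _
  · rw [hN]
    exact hr.mul_left _

theorem kill_sz8 {S : Type*} [Group S] (hS : IsNamed (.sz 8) S) (hP : PIso 2 7 S) : False := by
  obtain ⟨F, _, _, m, hm, hF, hq, ⟨e⟩⟩ := hS.real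
  refine sz_not_piso hm (hF.trans hq) ?_ (hP.congr e)
  rw [← hq]

/-! ### hypotheses -/

theorem dvd_of_out' {S : Type u} [Group S] [Finite S] [IsSimpleGroup S] (hna : ¬ ∀ a b : S, a * b = b * a)
    (hp : p.Prime) (hn : IsNamed g S) (hch : HasChar p g) {s : ℕ} (hs : s.Prime) (h5 : 5 ≤ s)
    (hlt : ∀ f₁, fld g = p ^ f₁ → ¬ s ∣ f₁) (h : s ∣ Nat.card (Cfsg.Out S)) : s ∣ Nat.card S := by
  obtain ⟨X, f₁, h1, h2, h3⟩ := exists_lie hp hn hch
  obtain ⟨k, h4, h6, -⟩ := H364.OutLie.card_out hna h1 hn.real h2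
  rw [h4] at h
  rcases hs.dvd_mul.1 h with h7 | h7
  · rcases hs.dvd_mul.1 (h7.trans h6) with h8 | h8
    · exfalso
      have h9 : s ∣ 2 ^ 3 * 3 := h8
      rcases hs.dvd_mul.1 h9 with h10 | h10
      · have := Nat.le_of_dvd (by norm_num) (hs.dvd_of_dvd_pow h10)
        omega
      · have := Nat.le_of_dvd (by norm_num) h10
        omega
    · exact dvd_of_dd hs h5 h2 h8
  · exact absurd h7 (hlt f₁ h3)

/-- the hypothesis of the theorems `charp_*` -/
theorem HT.of {R : Type*} [Group R] [Finite R] (S : Subgroup R) [S.Normal] [IsSimpleGroup S]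
    (hna : ¬ IsMulCommutative S) (hC : Subgroup.centralizer (S : Set R) = ⊥) (hp : p.Prime) (hn : IsNamed g S)
    (hch : HasChar p g) {e : ℕ} (he : 3 ≤ e) (h : ∀ s, Prim (p ^ f) e s → s ∣ Nat.card R) :
    HT p f e g (Nat.card S) := fun s hs hlt => by
  have h1 := (h s hs).trans (dvd_aut S hC)
  rw [← H934.OutB.card_out_mul S hna] at h1
  rcases hs.prime.dvd_mul.1 h1 with h2 | h2
  · exact dvd_of_out' (not_comm hna) hp hn hch hs.prime (five_le_of_prim he hs) hlt h2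
  · exact h2

/-! ### primes -/

theorem dvd_g2 {T : Type*} [Group T] (hT : IsNamed (.g2 (p ^ f)) T) {e s : ℕ}
    (hs : Prim (p ^ f) e s) (hed : e ∣ 6) : s ∣ Nat.card T := by
  refine H264.FKS.IsNamed.dvd hT hs.prime ?_ ?_
  · show s ∣ (p ^ f) ^ 6 * (((p ^ f) ^ 2 - 1) * ((p ^ f) ^ 6 - 1))
    exact ((hs.dvd hed).mul_left _).mul_left _
  · show ¬ s ∣ 1
    exact hs.prime.one_lt.ne' ∘ Nat.dvd_one.1

theorem dvd_f4 {T : Type*} [Group T] (hT : IsNamed (.f4 (p ^ f)) T) {e s : ℕ}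
    (hs : Prim (p ^ f) e s) (hed : e ∣ 8 ∨ e ∣ 12) : s ∣ Nat.card T := by
  refine H264.FKS.IsNamed.dvd hT hs.prime ?_ ?_
  · show s ∣ (p ^ f) ^ 24 * (((p ^ f) ^ 2 - 1) * ((p ^ f) ^ 6 - 1) * ((p ^ f) ^ 8 - 1) * ((p ^ f) ^ 12 - 1))
    rcases hed with hed | hed
    · exact (((hs.dvd hed).mul_left _).mul_right _).mul_left _
    · exact ((hs.dvd hed).mul_left _).mul_left _
  · show ¬ s ∣ 1
    exact hs.prime.one_lt.ne' ∘ Nat.dvd_one.1

theorem dvd_td4 {T : Type*} [Group T] (hT : IsNamed (.td4 (p ^ f)) T) {s : ℕ} (hq : 1 ≤ p ^ f)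
    (hs : Prim (p ^ f) 12 s) : s ∣ Nat.card T := by
  refine H264.FKS.IsNamed.dvd hT hs.prime ?_ ?_
  · show s ∣ (p ^ f) ^ 12 * (((p ^ f) ^ 2 - 1) * ((p ^ f) ^ 6 - 1) * ((p ^ f) ^ 8 + (p ^ f) ^ 4 + 1))
    refine Dvd.dvd.mul_left (Dvd.dvd.mul_left ?_ _) _
    have h1 := hs.dvd dvd_rfl
    rw [td4_eq hq] at h1
    exact (hs.prime.dvd_mul.1 h1).resolve_right (hs.not_dvd_sub (by norm_num))
  · show ¬ s ∣ 1
    exact hs.prime.one_lt.ne' ∘ Nat.dvd_one.1

theorem dvd_tf4 {T : Type*} [Group T] (hT : IsNamed (.tf4 (p ^ f)) T) {e s : ℕ}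
    (hs : Prim (p ^ f) e s) (he : e = 6 ∨ e = 12) : s ∣ Nat.card T := by
  refine H264.FKS.IsNamed.dvd hT hs.prime ?_ ?_
  · show s ∣ (p ^ f) ^ 12 * ((p ^ f - 1) * ((p ^ f) ^ 3 + 1) * ((p ^ f) ^ 4 - 1) * ((p ^ f) ^ 6 + 1))
    rcases he with rfl | rfl
    · have h1 : s ∣ (p ^ f) ^ 3 + 1 := hs.dvd_add (by norm_num) (by norm_num)
      exact (((h1.mul_left _).mul_right _).mul_right _).mul_left _
    · have h1 : s ∣ (p ^ f) ^ 6 + 1 := hs.dvd_add (by norm_num) (by norm_num)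
      exact (h1.mul_left _).mul_left _
  · show ¬ s ∣ 1
    exact hs.prime.one_lt.ne' ∘ Nat.dvd_one.1

/-! ### isolated primes of named groups -/

theorem piso_g2_named {T : Type*} [Group T] (hT : IsNamed (.g2 (p ^ f)) T) (hp : p.Prime) {e s : ℕ}
    (he : e = 3 ∨ e = 6) (hs : Prim (p ^ f) e s) : PIso p s T := by
  have : Fact p.Prime := ⟨hp⟩
  obtain ⟨F, _, _, hF, ⟨e'⟩⟩ := hT.real
  have := charP_of_card hp hF
  have h3 : 3 ≤ p ^ f := hT.cond.1
  refine (IsoExc.piso_G2 (F := F) (p := p) (by rw [hF]; omega) he ?_).congr e'.symm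
  rw [hF]
  exact hs

theorem piso_f4_named {T : Type*} [Group T] (hT : IsNamed (.f4 (p ^ f)) T) (hp : p.Prime) {e s : ℕ}
    (he : e = 8 ∨ e = 12) (hs : Prim (p ^ f) e s) : PIso p s T := by
  have : Fact p.Prime := ⟨hp⟩
  obtain ⟨F, _, _, hF, ⟨e'⟩⟩ := hT.real
  have := charP_of_card hp hF
  refine (IsoExc.piso_F4 (F := F) (p := p) he ?_).congr e'.symm
  rw [hF]
  exact hs

/-! ### the rows -/

section

variable {T : Type u} [Group T] [Finite T] {R : Subgroup T}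

/-- **`T = G_2(q)`, `q ≥ 3`.** -/
theorem row_g2 (hT : IsNamed (.g2 (p ^ f)) T) (hp : p.Prime) (hf : 1 ≤ f)
    (hfull : Full T R) (S : Subgroup R) [S.Normal] [IsSimpleGroup S] (hna : ¬ IsMulCommutative S)
    (hC : Subgroup.centralizer (S : Set R) = ⊥) (hS : IsNamed g S) (hch : HasChar p g) : R = ⊤ := by
  have h3 : 3 ≤ p ^ f := hT.cond.1
  have h21 : ¬ (p = 2 ∧ f = 1) := by
    rintro ⟨rfl, rfl⟩
    norm_num at h3
  have hq : 2 ≤ p ^ f := by omega
  have hiso : ∀ {s : ℕ}, Prim (p ^ f) 3 s → PIso p s S := fun hs =>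
    ((piso_g2_named hT hp (Or.inl rfl) hs).sub R).sub S
  rcases charp_g2 hp hf h21 hS.cond hch hS.eq (IsNamed.card_dvd hT S)
    (HT.of S hna hC hp hS hch le_rfl fun s hs => hfull s hs.prime (dvd_g2 hT hs (by norm_num)))
    (HT.of S hna hC hp hS hch (by norm_num) fun s hs => hfull s hs.prime (dvd_g2 hT hs dvd_rfl)) with h | h | h
  · subst h
    exact eq_top_of_name hT hS
  · exfalso
    subst h
    obtain ⟨s, hs⟩ := exists_prim (q := p ^ f) (e := 3) hq le_rfl (by omega)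
    exact kill_psl2 hp hS hs (hiso hs)
  · exfalso
    obtain ⟨rfl, rfl, rfl⟩ := h
    obtain ⟨s, hs⟩ := exists_prim (q := 2 ^ 2) (e := 3) hq le_rfl (by omega)
    have h7 : s = 7 := by
      have h8 : s ∣ 3 ^ 2 * 7 := hs.dvd dvd_rfl
      rcases hs.prime.dvd_mul.1 h8 with h9 | h9
      · exfalso
        have h10 := (Nat.prime_dvd_prime_iff_eq hs.prime Nat.prime_three).1 (hs.prime.dvd_of_dvd_pow h9)
        have := five_le_of_prim (p := 2) (f := 2) (e := 3) le_rfl hs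
        omega
      · exact (Nat.prime_dvd_prime_iff_eq hs.prime (by norm_num)).1 h9
    have h9 := hiso hs
    rw [h7] at h9
    exact kill_sz8 hS h9

/-- **`T = F_4(q)`.** -/
theorem row_f4 (hT : IsNamed (.f4 (p ^ f)) T) (hp : p.Prime) (hf : 1 ≤ f)
    (hfull : Full T R) (S : Subgroup R) [S.Normal] [IsSimpleGroup S] (hna : ¬ IsMulCommutative S)
    (hC : Subgroup.centralizer (S : Set R) = ⊥) (hS : IsNamed g S) (hch : HasChar p g) : R = ⊤ := by
  have hq : 2 ≤ p ^ f := hp.two_le.trans (Nat.le_self_pow (by omega) _)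
  rcases charp_f4 hp hf hS.cond hch hS.eq (IsNamed.card_dvd hT S)
    (HT.of S hna hC hp hS hch (by norm_num) fun s hs => hfull s hs.prime (dvd_f4 hT hs (Or.inl dvd_rfl)))
    (HT.of S hna hC hp hS hch (by norm_num) fun s hs => hfull s hs.prime (dvd_f4 hT hs (Or.inr dvd_rfl))) with h | h
  · subst h
    exact eq_top_of_name hT hS
  · exfalso
    subst h
    obtain ⟨s, hs⟩ := exists_prim (q := p ^ f) (e := 8) hq (by norm_num) (by omega)
    exact kill_psl3 hp hS hs (((piso_f4_named hT hp (Or.inl rfl) hs).sub R).sub S)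

/-- **`T = ³D_4(q)`.** -/
theorem row_td4 (hT : IsNamed (.td4 (p ^ f)) T) (hp : p.Prime) (hf : 1 ≤ f)
    (hfull : Full T R) (S : Subgroup R) [S.Normal] [IsSimpleGroup S] (hna : ¬ IsMulCommutative S)
    (hC : Subgroup.centralizer (S : Set R) = ⊥) (hS : IsNamed g S) (hch : HasChar p g) : R = ⊤ := by
  have hq : 1 ≤ p ^ f := Nat.one_le_pow _ _ hp.pos
  have h := charp_td4 hp hf hS.cond hch hS.eq (IsNamed.card_dvd hT S)
    (HT.of S hna hC hp hS hch (by norm_num) fun s hs => hfull s hs.prime (dvd_td4 hT hq hs))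
  subst h
  exact eq_top_of_name hT hS

/-- **`T = ²F_4(q)`.** -/
theorem row_tf4 (hT : IsNamed (.tf4 (p ^ f)) T) (hp : p.Prime) (hf : 1 ≤ f)
    (hfull : Full T R) (S : Subgroup R) [S.Normal] [IsSimpleGroup S] (hna : ¬ IsMulCommutative S)
    (hC : Subgroup.centralizer (S : Set R) = ⊥) (hS : IsNamed g S) (hch : HasChar p g) : R = ⊤ := by
  have h := charp_tf4 hp hf hT.cond hS.cond hch hS.eq (IsNamed.card_dvd hT S)
    (HT.of S hna hC hp hS hch (by norm_num) fun s hs => hfull s hs.prime (dvd_tf4 hT hs (Or.inl rfl)))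
    (HT.of S hna hC hp hS hch (by norm_num) fun s hs => hfull s hs.prime (dvd_tf4 hT hs (Or.inr rfl)))
  subst h
  exact eq_top_of_name hT hS

end

end Cfsg.Agent.H325.Same
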