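import Mathlib
import Cfsg.Agent.H325.LocStruct
import Cfsg.Agent.TitsThree.KSideO
import Cfsg.Agent.LieClassical.QuadForms
import Cfsg.Agent.S0290
import Cfsg.Agent.S0289
import Cfsg.Agent.H325.Same.ExcRow2

/-!
# Elements of the orthogonal groups fixing singular vectors normalize `p`-subgroups (helper325)

`not_piso_orth`: a prime dividing the order of `PΩ(Q)` and not the number of nonzero singular vectors is not isolated.
-/

set_option autoImplicit false

namespace Cfsg.Agent.H325.Same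

open Cfsg Cfsg.Agent.H325.Loc QuadraticMap
open Cfsg.Agent.LieClassical Cfsg.Agent.LieClassical.OrthCore Cfsg.Agent.LieClassical.OrthTrans
open Cfsg.Agent.LieClassical.OrthFinite Cfsg.Agent.LieClassical.OrthForms Cfsg.Agent.LieClassical.QuadForms
open Cfsg.Agent.TitsThree.KSideO (toPOmega toPOmega_surjective center_of_toPOmega scalar_of_center)

/-- the general principle -/
theorem kill_hom {G S V : Type*} [Group G] [Group S] [Group V] [Finite S] {p r : ℕ} (hV : IsPGroup p V)
    (φ : G →* S) (U : V →* G) (h : G) (hh : orderOf (φ h) = r) {v : V} (hv : φ (U v) ≠ 1)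
    (hn : ∀ w, ∃ w', h * U w = U w' * h) (hP : PIso p r S) : False := by
  have hQ : IsPGroup p (φ.comp U).range := by
    rintro ⟨_, w, rfl⟩
    obtain ⟨k, hk⟩ := hV w
    refine ⟨k, Subtype.ext ?_⟩
    change ((φ.comp U) w) ^ p ^ k = 1
    rw [← map_pow, hk, map_one]
  have hQ1 : (φ.comp U).range ≠ ⊥ := by
    intro h0
    have h1 : (φ.comp U) v ∈ (φ.comp U).range := ⟨v, rfl⟩
    rw [h0, Subgroup.mem_bot] at h1
    exact hv h1
  have h1 : φ h ∈ Subgroup.normalizer ((φ.comp U).range : Set S) := by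
    have hsub : (φ.comp U).range.map (MulAut.conj (φ h)).toMonoidHom ≤ (φ.comp U).range := by
      rintro _ ⟨_, ⟨w, rfl⟩, rfl⟩
      obtain ⟨w', hw'⟩ := hn w
      refine ⟨w', ?_⟩
      change φ (U w') = φ h * φ (U w) * (φ h)⁻¹
      rw [eq_mul_inv_iff_mul_eq, ← map_mul, ← map_mul, hw']
    have heq : (φ.comp U).range.map (MulAut.conj (φ h)).toMonoidHom = (φ.comp U).range :=
      Subgroup.eq_of_le_of_card_ge hsub (Nat.card_congr ((φ.comp U).range.equivMapOfInjective _
        (MulAut.conj (φ h)).injective).toEquiv).le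
    rw [Subgroup.mem_normalizer_iff]
    intro y
    constructor
    · intro hy
      rw [← heq]
      exact ⟨y, hy, rfl⟩
    · intro hy
      rw [← heq] at hy
      obtain ⟨z, hz, hzy⟩ := hy
      have : z = y := (MulAut.conj (φ h)).injective hzy
      rwa [← this]
  apply hP _ hQ hQ1
  rw [← hh, ← Subgroup.orderOf_mk _ h1]
  exact orderOf_dvd_natCard _

/-- lifting an element of prime order to an element of prime power order -/
theorem exists_lift {G S : Type*} [Group G] [Finite G] [Group S] {r : ℕ} (hr : r.Prime) {φ : G →* S}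
    (hφ : Function.Surjective φ) (hd : r ∣ Nat.card S) : ∃ y : G, ∃ k : ℕ, y ^ r ^ k = 1 ∧ orderOf (φ y) = r := by
  have : Fact r.Prime := ⟨hr⟩
  have : Finite S := Finite.of_surjective _ hφ
  obtain ⟨x, hx⟩ := exists_prime_orderOf_dvd_card' r hd
  obtain ⟨y, rfl⟩ := hφ x
  obtain ⟨k, m, hm, hk⟩ := Nat.exists_eq_pow_mul_and_not_dvd (orderOf_pos y).ne' r hr.ne_one
  refine ⟨y ^ m, k, ?_, ?_⟩
  · rw [← pow_mul, mul_comm, ← hk, pow_orderOf_eq_one]
  · rw [map_pow, Nat.Coprime.orderOf_pow, hx]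
    rw [hx]
    exact (Nat.Prime.coprime_iff_not_dvd hr).2 hm

section

variable {F V : Type*} [Field F] [AddCommGroup V] [Module F V] {Q : QuadraticForm F V}

/-- an `r`-element fixes a nonzero singular vector if `r` does not divide the number of these -/
theorem exists_fixed [Finite V] {r k : ℕ} (hr : r.Prime) {y : V ≃ₗ[F] V} (hy : y ∈ O Q) (hk : y ^ r ^ k = 1)
    (hc : ¬ r ∣ Nat.card {v : V // Q v = 0} - 1) : ∃ u : V, u ≠ 0 ∧ Q u = 0 ∧ y u = u := by
  classical
  have : Fact r.Prime := ⟨hr⟩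
  let f : Function.End {v : V // Q v = 0} := fun v => ⟨y v, by rw [hy]; exact v.2⟩
  have hfk : ∀ (k : ℕ) (w : {v : V // Q v = 0}), (((f ^ k) w : {v : V // Q v = 0}) : V) = (y ^ k) w := by
    intro k
    induction k with
    | zero => intro w; rfl
    | succ k ih =>
      intro w
      rw [pow_succ', pow_succ', LinearEquiv.mul_apply, ← ih]
      rfl
  have hf : f ^ r ^ k = 1 := by
    funext w
    apply Subtype.ext
    rw [hfk, hk]
    rfl
  have hft : Fintype {v : V // Q v = 0} := Fintype.ofFinite _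
  have h1 := Equiv.Perm.card_fixedPoints_modEq (p := r) (n := k) hf
  by_contra hcon
  push Not at hcon
  have h2 : Fintype.card (Function.fixedPoints f) = 1 := by
    rw [Fintype.card_eq_one_iff]
    have h0 : Q (0 : V) = 0 := QuadraticMap.map_zero Q
    refine ⟨⟨⟨0, h0⟩, Subtype.ext (map_zero y)⟩, ?_⟩
    rintro ⟨⟨v, hv⟩, hf⟩
    apply Subtype.ext
    apply Subtype.ext
    by_contra hv0
    exact hcon v hv0 hv (congrArg Subtype.val hf)
  rw [h2] at h1
  apply hc
  have hne : Nonempty {v : V // Q v = 0} := ⟨⟨0, QuadraticMap.map_zero Q⟩⟩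
  rw [Nat.card_eq_fintype_card]
  exact (Nat.modEq_iff_dvd' Fintype.card_pos).1 h1.symm

/-- the Siegel transformations of the singular vector `u` -/
def sgl {u : V} (hu : Q u = 0) : Multiplicative (LinearMap.ker (polarBilin Q u)) →* ↥(E Q) where
  toFun w := ⟨siegel Q u (w.toAdd : V) hu w.toAdd.2, siegel_mem_E hu w.toAdd.2⟩
  map_one' := by
    apply Subtype.ext
    ext v
    have h0 : polar Q u (0 : V) = 0 := QuadraticMap.polar_zero_right Q u
    show siegel Q u (0 : V) hu h0 v = v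
    rw [siegel_apply]
    simp
  map_mul' w w' := by
    apply Subtype.ext
    exact (siegel_mul hu w.toAdd.2 w'.toAdd.2 (w.toAdd + w'.toAdd).2).symm

theorem pgroup_mult' {W : Type*} [AddCommGroup W] [Module F W] {p : ℕ} [Fact p.Prime] [CharP F p] :
    IsPGroup p (Multiplicative W) := by
  intro g
  refine ⟨1, ?_⟩
  rw [pow_one]
  apply Multiplicative.toAdd.injective
  rw [toAdd_pow, toAdd_one, ← Nat.cast_smul_eq_nsmul F, CharP.cast_eq_zero, zero_smul]

end

section

variable {ι : Type} [Fintype ι] [DecidableEq ι] {F : Type*} [Field F] {Q : QuadraticForm F (ι → F)}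

/-- **A prime dividing `|PΩ(Q)|` and not the number of nonzero singular vectors is not isolated.** -/
theorem not_piso_orth [Finite F] (hG : Good Q) {p r : ℕ} [hpf : Fact p.Prime] [CharP F p] (hr : r.Prime)
    (hd : r ∣ Nat.card (POmega F ⇑Q)) (hc : ¬ r ∣ Nat.card {v : ι → F // Q v = 0} - 1) :
    ¬ PIso p r (POmega F ⇑Q) := by
  intro hP
  have hfin0 : Finite ((ι → F) ≃ₗ[F] (ι → F)) := Finite.of_injective (fun g : (ι → F) ≃ₗ[F] (ι → F) => (g : (ι → F) → (ι → F)))
    DFunLike.coe_injective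
  have hfin : Finite ↥(E Q) := inferInstance
  obtain ⟨y, k, hk, hy⟩ := exists_lift hr (toPOmega_surjective hG) hd
  obtain ⟨u, hu0, hu, hyu⟩ := exists_fixed hr (E_le_O y.2) (k := k) (by
    have := congrArg Subtype.val hk
    simpa using this) hc
  have hfinS : Finite (POmega F ⇑Q) := Finite.of_surjective _ (toPOmega_surjective hG)
  obtain ⟨v, hv⟩ := OrthTrans.exists_hyp hG.nondeg hu hu0
  obtain ⟨w, hw0, hw, huw, hvw⟩ := hG.perp u v hv
  refine kill_hom (p := p) (r := r) (pgroup_mult' (F := F)) (toPOmega hG) (sgl hu) y hy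
    (v := Multiplicative.ofAdd ⟨w, huw⟩) ?_ ?_ hP
  · intro h
    obtain ⟨c, hc⟩ := scalar_of_center hG (center_of_toPOmega hG h)
    have h1 : siegel Q u w hu huw v = c • v := hc v
    rw [siegel_apply, hv.pair, polar_comm, hvw, hw] at h1
    have h2 : w = (c - 1) • v := by
      rw [sub_smul, one_smul, ← h1]
      simp
    rw [h2, polar_smul_right, hv.pair, smul_eq_mul, mul_one] at huw
    rw [huw, zero_smul] at h2
    exact hw0 h2
  · intro w'
    have hyw : polar Q u ((y : (ι → F) ≃ₗ[F] (ι → F)) (w'.toAdd : ι → F)) = 0 := by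
      have := polar_map (E_le_O y.2) u (w'.toAdd : ι → F)
      rw [hyu] at this
      rw [this]
      exact w'.toAdd.2
    refine ⟨Multiplicative.ofAdd ⟨_, hyw⟩, ?_⟩
    rw [← mul_inv_eq_iff_eq_mul]
    apply Subtype.ext
    have h3 := siegel_conj (E_le_O y.2) hu w'.toAdd.2 (by rw [hyu]; exact hu) (by rw [hyu]; exact hyw)
    refine h3.trans ?_
    ext1 x
    refine (siegel_apply (Q := Q) _ _ x).trans ?_
    rw [hyu]
    exact (siegel_apply (Q := Q) hu hyw x).symm

end

/-- `PΩ⁻_{2m}(F)`: a prime dividing the order and neither `|F|^m + 1` nor `|F|^(m-1) - 1` is not isolated. -/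
theorem not_piso_ominus {F : Type*} [Field F] [Fintype F] {m : ℕ} (hm : 3 ≤ m) {a b : F}
    (hab : ∀ z₁ z₂ : F, z₁ ^ 2 + a * z₁ * z₂ + b * z₂ ^ 2 = 0 → z₁ = 0 ∧ z₂ = 0) {p r : ℕ} [hpf : Fact p.Prime]
    [CharP F p] (hr : r.Prime) (hd : r ∣ Nat.card (POmega F (quadFormMinus (m - 1) F a b)))
    (h1 : ¬ r ∣ Fintype.card F ^ m + 1) (h2 : ¬ r ∣ Fintype.card F ^ (m - 1) - 1) :
    ¬ PIso p r (POmega F (quadFormMinus (m - 1) F a b)) := by
  rw [← coe_minusForm] at hd ⊢
  have hG : Good (OrthForms.minusForm (m - 1) F a b) := by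
    apply good_of_finite (nondeg_minusForm (m - 1) F a b hab)
    rw [Module.finrank_fintype_fun_eq_card, Fintype.card_sum, Fintype.card_sum, Fintype.card_fin, Fintype.card_fin]
    omega
  refine not_piso_orth hG hr hd ?_
  have h3 := Cfsg.Agent.S0290.result (F := F) rfl m (by omega) a b hab
  rw [coe_minusForm, h3]
  set q := Fintype.card F with hq
  have hq2 : 1 < q := Fintype.one_lt_card
  obtain ⟨n, rfl⟩ : ∃ n, m = n + 1 := ⟨m - 1, by omega⟩
  have e1 : 2 * (n + 1) - 1 = 2 * n + 1 := by omega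
  have e2 : n + 1 - 1 = n := by omega
  rw [e1, e2]
  rw [e2] at h2
  have h4 : q ^ (2 * n + 1) + q ^ n - q ^ (n + 1) - 1 = (q ^ (n + 1) + 1) * (q ^ n - 1) := by
    have h5 : 1 ≤ q ^ n := Nat.one_le_pow _ _ (by omega)
    have h6 : q ^ (n + 1) ≤ q ^ (2 * n + 1) := Nat.pow_le_pow_right (by omega) (by omega)
    have h7 : q ^ (2 * n + 1) = q ^ (n + 1) * q ^ n := by rw [← pow_add]; congr 1; omega
    zify [h5, (show q ^ (n + 1) ≤ q ^ (2 * n + 1) + q ^ n by omega),
      (show 1 ≤ q ^ (2 * n + 1) + q ^ n - q ^ (n + 1) by omega)]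
    push_cast [h7]
    ring
  rw [h4]
  intro h
  rcases hr.dvd_mul.1 h with h | h
  · exact h1 h
  · exact h2 h

/-- `PΩ⁻₈(Q)`, `Q ^ 2 = q ^ 3`, has no isolated primitive prime divisor of `p ^ (9 f) - 1`. -/
theorem kill_ominus4 {S : Type*} [Group S] {p f f₁ r : ℕ} (hp : p.Prime) (hf : 1 ≤ f) (he : 2 * f₁ = 3 * f)
    (hS : Cfsg.Agent.H436.IsNamed (.ominus 4 (p ^ f₁)) S) (hr : Cfsg.Agent.H436.Prim p (9 * f) r) (hd : r ∣ Nat.card S)
    (hP : PIso p r S) : False := by
  have : Fact p.Prime := ⟨hp⟩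
  obtain ⟨F, _, _, a, b, hF, hab, ⟨e⟩⟩ := hS.real
  have := charP_of_card hp hF
  obtain ⟨f₂, rfl⟩ : ∃ f₂, f = 2 * f₂ := ⟨f / 2, by omega⟩
  obtain rfl : f₁ = 3 * f₂ := by omega
  refine not_piso_ominus (F := F) (m := 4) (p := p) (r := r) (by norm_num) hab hr.prime ?_ ?_ ?_ (hP.congr e)
  · rw [← Nat.card_congr e.toEquiv]
    exact hd
  · rw [hF, ← pow_mul]
    refine hr.not_dvd_add ?_
    rintro ⟨k, hk⟩
    have h4 : 24 = 18 * k := Nat.eq_of_mul_eq_mul_right (show 0 < f₂ by omega) (by rw [mul_assoc, mul_comm k, ← mul_assoc, ← mul_assoc] at *; linarith)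
    omega
  · rw [hF, ← pow_mul]
    intro h
    obtain ⟨k, hk⟩ := (hr.dvd_iff _).1 h
    have h4 : 9 = 18 * k := Nat.eq_of_mul_eq_mul_right (show 0 < f₂ by omega) (by nlinarith)
    omega

end Cfsg.Agent.H325.Same
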