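import Mathlib
import Cfsg.Agent.H325.Same.ExcTw
import Cfsg.Agent.H325.Same.ExcF4

/-!
# `E_6(q)`, `²E_6(q)`, classes 8 and 12 (helper325)

`charp_e6_812`: only `E_6(q)`, `F_4(q)`, `L_3(q^4)`; `charp_te6_812`: only `²E_6(q)`, `F_4(q)`, `L_3(q^4)`.
-/

set_option autoImplicit false
set_option linter.unreachableTactic false
set_option maxHeartbeats 2000000

namespace Cfsg.Agent.H325.Same

open Cfsg.Agent.OrdDiv Cfsg.Agent.H436 Cfsg.Agent.H915.GN Cfsg.Agent.H264.GN Cfsg.Agent.H264.FKS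

variable {p f c : ℕ} {g : Grp}

theorem elimP_e6_8_12 (hg : Cond g) (hch : HasChar p g) {i : ℕ} (hi : i ∈ [2, 5, 6, 8, 9, 12]) (hei : 12 ≤ i)
    (h2 : ag g * i ≤ 36 * Mg g) (h1 : ∃ x, Xg g x ∧ 8 * Mg g ∣ i * x) (h3 : ∃ x, Xg g x ∧ 12 * Mg g ∣ i * x)
    (hY : ∀ k, (k = 4 ∨ k = 5 ∨ 7 ≤ k) → Yg g k → ∃ j, j ∈ [2, 5, 6, 8, 9, 12] ∧ i * k ∣ Mg g * j) :
    (i = 12 ∧ ∃ q, g = .e6 q) ∨ (i = 12 ∧ ∃ q, g = .f4 q) ∨ (i = 12 ∧ ∃ q, g = .psl 3 q) ∨ (i = 12 ∧ ∃ q, g = .psp 3 q) ∨ (i = 12 ∧ ∃ q, g = .oodd 3 q) ∨ (i = 12 ∧ ∃ q, g = .psu 4 q) ∨ (i = 12 ∧ ∃ q, g = .oplus 4 q) := by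
  obtain ⟨x, hx, hxd⟩ := h1
  obtain ⟨y, hy, hyd⟩ := h3
  have hi2 : i = 12 := by
    simp only [List.mem_cons, List.not_mem_nil, or_false] at hi
    omega
  clear hi hei
  rcases hi2 with rfl
  · have h2' : 2 * ag g ≤ 6 * Mg g := by omega
    clear h2
    cases g
    case psl m q =>
      obtain ⟨hm, -, -⟩ := hg
      have hb := bd_psl (ρ := 6) (by omega) h2'
      have hx' : 1 ≤ x ∧ x ≤ m := hx
      have hy' : 1 ≤ y ∧ y ≤ m := hy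
      have hxd' : 8 * m ∣ 12 * x := hxd
      have hyd' : 12 * m ∣ 12 * y := hyd
      have hY5 : 5 ≤ m → 60 ∣ m * 2 ∨ 60 ∣ m * 5 ∨ 60 ∣ m * 6 ∨ 60 ∣ m * 8 ∨ 60 ∣ m * 9 ∨ 60 ∣ m * 12 := by
        intro h
        obtain ⟨j, hj, hjd⟩ := hY 5 (by norm_num) (show 2 ≤ 5 ∧ 5 ≤ m from ⟨by norm_num, h⟩)
        have hjd' : 12 * 5 ∣ m * j := hjd
        simp only [List.mem_cons, List.not_mem_nil, or_false] at hj
        norm_num only at hjd'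
        rcases hj with rfl | rfl | rfl | rfl | rfl | rfl <;> simp only [hjd', true_or, or_true]
      clear hx hy hxd hyd h2' hch hY
      interval_cases m <;> first | omega | exact Or.inl ⟨rfl, q, rfl⟩ | exact Or.inr (Or.inl ⟨rfl, q, rfl⟩) | exact Or.inr (Or.inr (Or.inl ⟨rfl, q, rfl⟩)) | exact Or.inr (Or.inr (Or.inr (Or.inl ⟨rfl, q, rfl⟩))) | exact Or.inr (Or.inr (Or.inr (Or.inr (Or.inl ⟨rfl, q, rfl⟩)))) | exact Or.inr (Or.inr (Or.inr (Or.inr (Or.inr (Or.inl ⟨rfl, q, rfl⟩))))) | exact Or.inr (Or.inr (Or.inr (Or.inr (Or.inr (Or.inr (⟨rfl, q, rfl⟩))))))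
    case psp m q =>
      obtain ⟨hm, -, -⟩ := hg
      have hb := bd_psp (ρ := 6) (by omega) h2'
      have hx' : 1 ≤ x ∧ x ≤ 2 * m ∧ 2 ∣ x := hx
      have hy' : 1 ≤ y ∧ y ≤ 2 * m ∧ 2 ∣ y := hy
      have hxd' : 8 * (2 * m) ∣ 12 * x := hxd
      have hyd' : 12 * (2 * m) ∣ 12 * y := hyd
      have hY10 : 10 ≤ 2 * m → 120 ∣ (2 * m) * 2 ∨ 120 ∣ (2 * m) * 5 ∨ 120 ∣ (2 * m) * 6 ∨ 120 ∣ (2 * m) * 8 ∨ 120 ∣ (2 * m) * 9 ∨ 120 ∣ (2 * m) * 12 := by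
        intro h
        obtain ⟨j, hj, hjd⟩ := hY 10 (by norm_num) (show 1 ≤ 10 ∧ 10 ≤ 2 * m ∧ 2 ∣ 10 from ⟨by norm_num, h, by norm_num⟩)
        have hjd' : 12 * 10 ∣ (2 * m) * j := hjd
        simp only [List.mem_cons, List.not_mem_nil, or_false] at hj
        norm_num only at hjd'
        rcases hj with rfl | rfl | rfl | rfl | rfl | rfl <;> simp only [hjd', true_or, or_true]
      clear hx hy hxd hyd h2' hch hY
      interval_cases m <;> first | omega | exact Or.inl ⟨rfl, q, rfl⟩ | exact Or.inr (Or.inl ⟨rfl, q, rfl⟩) | exact Or.inr (Or.inr (Or.inl ⟨rfl, q, rfl⟩)) | exact Or.inr (Or.inr (Or.inr (Or.inl ⟨rfl, q, rfl⟩))) | exact Or.inr (Or.inr (Or.inr (Or.inr (Or.inl ⟨rfl, q, rfl⟩)))) | exact Or.inr (Or.inr (Or.inr (Or.inr (Or.inr (Or.inl ⟨rfl, q, rfl⟩))))) | exact Or.inr (Or.inr (Or.inr (Or.inr (Or.inr (Or.inr (⟨rfl, q, rfl⟩))))))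
    case oodd m q =>
      obtain ⟨hm, -, -⟩ := hg
      have hb := bd_psp (ρ := 6) (by omega) h2'
      have hx' : 1 ≤ x ∧ x ≤ 2 * m ∧ 2 ∣ x := hx
      have hy' : 1 ≤ y ∧ y ≤ 2 * m ∧ 2 ∣ y := hy
      have hxd' : 8 * (2 * m) ∣ 12 * x := hxd
      have hyd' : 12 * (2 * m) ∣ 12 * y := hyd
      have hY10 : 10 ≤ 2 * m → 120 ∣ (2 * m) * 2 ∨ 120 ∣ (2 * m) * 5 ∨ 120 ∣ (2 * m) * 6 ∨ 120 ∣ (2 * m) * 8 ∨ 120 ∣ (2 * m) * 9 ∨ 120 ∣ (2 * m) * 12 := by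
        intro h
        obtain ⟨j, hj, hjd⟩ := hY 10 (by norm_num) (show 1 ≤ 10 ∧ 10 ≤ 2 * m ∧ 2 ∣ 10 from ⟨by norm_num, h, by norm_num⟩)
        have hjd' : 12 * 10 ∣ (2 * m) * j := hjd
        simp only [List.mem_cons, List.not_mem_nil, or_false] at hj
        norm_num only at hjd'
        rcases hj with rfl | rfl | rfl | rfl | rfl | rfl <;> simp only [hjd', true_or, or_true]
      clear hx hy hxd hyd h2' hch hY
      interval_cases m <;> first | omega | exact Or.inl ⟨rfl, q, rfl⟩ | exact Or.inr (Or.inl ⟨rfl, q, rfl⟩) | exact Or.inr (Or.inr (Or.inl ⟨rfl, q, rfl⟩)) | exact Or.inr (Or.inr (Or.inr (Or.inl ⟨rfl, q, rfl⟩))) | exact Or.inr (Or.inr (Or.inr (Or.inr (Or.inl ⟨rfl, q, rfl⟩)))) | exact Or.inr (Or.inr (Or.inr (Or.inr (Or.inr (Or.inl ⟨rfl, q, rfl⟩))))) | exact Or.inr (Or.inr (Or.inr (Or.inr (Or.inr (Or.inr (⟨rfl, q, rfl⟩))))))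
    case psu m q =>
      obtain ⟨hm, -, -⟩ := hg
      have hb := bd_psu (ρ := 6) hm h2'
      have hx' : (1 ≤ x ∧ x ≤ m ∧ 2 ∣ x) ∨ ∃ j, x = 2 * j ∧ j ≤ m ∧ j % 2 = 1 := hx
      have hy' : (1 ≤ y ∧ y ≤ m ∧ 2 ∣ y) ∨ ∃ j, y = 2 * j ∧ j ≤ m ∧ j % 2 = 1 := hy
      obtain ⟨k, hk⟩ : ∃ k, k = (if m % 2 = 0 then m - 1 else m) := ⟨_, rfl⟩
      have hk' : (m % 2 = 0 ∧ k = m - 1) ∨ (m % 2 = 1 ∧ k = m) := by
        rw [hk]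
        split_ifs <;> omega
      have hM : Mg (.psu m q) = 2 * k := by rw [hk]; rfl
      have hxd' : 8 * (2 * k) ∣ 12 * x := hM ▸ hxd
      have hyd' : 12 * (2 * k) ∣ 12 * y := hM ▸ hyd
      clear hx hy hxd hyd h2' hch hY hM hk
      rcases hk' with ⟨hk1, hk2⟩ | ⟨hk1, hk2⟩ <;> rcases hx' with hx' | ⟨j, rfl, hx'⟩ <;>
        rcases hy' with hy' | ⟨l, rfl, hy'⟩ <;> interval_cases m <;> subst hk2 <;> first | omega | exact Or.inl ⟨rfl, q, rfl⟩ | exact Or.inr (Or.inl ⟨rfl, q, rfl⟩) | exact Or.inr (Or.inr (Or.inl ⟨rfl, q, rfl⟩)) | exact Or.inr (Or.inr (Or.inr (Or.inl ⟨rfl, q, rfl⟩))) | exact Or.inr (Or.inr (Or.inr (Or.inr (Or.inl ⟨rfl, q, rfl⟩)))) | exact Or.inr (Or.inr (Or.inr (Or.inr (Or.inr (Or.inl ⟨rfl, q, rfl⟩))))) | exact Or.inr (Or.inr (Or.inr (Or.inr (Or.inr (Or.inr (⟨rfl, q, rfl⟩))))))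
    case oplus m q =>
      obtain ⟨hm, -⟩ := hg
      have hb := bd_oplus (ρ := 6) (by omega) h2'
      have hx' : 1 ≤ x ∧ x ≤ 2 * (m - 1) ∧ (2 ∣ x ∨ x = m) := hx
      have hy' : 1 ≤ y ∧ y ≤ 2 * (m - 1) ∧ (2 ∣ y ∨ y = m) := hy
      have hxd' : 8 * (2 * (m - 1)) ∣ 12 * x := hxd
      have hyd' : 12 * (2 * (m - 1)) ∣ 12 * y := hyd
      clear hx hy hxd hyd h2' hch hY
      interval_cases m <;> first | omega | exact Or.inl ⟨rfl, q, rfl⟩ | exact Or.inr (Or.inl ⟨rfl, q, rfl⟩) | exact Or.inr (Or.inr (Or.inl ⟨rfl, q, rfl⟩)) | exact Or.inr (Or.inr (Or.inr (Or.inl ⟨rfl, q, rfl⟩))) | exact Or.inr (Or.inr (Or.inr (Or.inr (Or.inl ⟨rfl, q, rfl⟩)))) | exact Or.inr (Or.inr (Or.inr (Or.inr (Or.inr (Or.inl ⟨rfl, q, rfl⟩))))) | exact Or.inr (Or.inr (Or.inr (Or.inr (Or.inr (Or.inr (⟨rfl, q, rfl⟩))))))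
    case ominus m q =>
      obtain ⟨hm, -⟩ := hg
      have hb := bd_ominus (ρ := 6) (by omega) h2'
      have hx' : 1 ≤ x ∧ x ≤ 2 * m ∧ 2 ∣ x := hx
      have hy' : 1 ≤ y ∧ y ≤ 2 * m ∧ 2 ∣ y := hy
      have hxd' : 8 * (2 * m) ∣ 12 * x := hxd
      have hyd' : 12 * (2 * m) ∣ 12 * y := hyd
      have hY10 : 10 ≤ 2 * m → 120 ∣ (2 * m) * 2 ∨ 120 ∣ (2 * m) * 5 ∨ 120 ∣ (2 * m) * 6 ∨ 120 ∣ (2 * m) * 8 ∨ 120 ∣ (2 * m) * 9 ∨ 120 ∣ (2 * m) * 12 := by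
        intro h
        obtain ⟨j, hj, hjd⟩ := hY 10 (by norm_num) (show 4 ≤ 10 ∧ 10 ≤ 2 * m ∧ 2 ∣ 10 from ⟨by norm_num, h, by norm_num⟩)
        have hjd' : 12 * 10 ∣ (2 * m) * j := hjd
        simp only [List.mem_cons, List.not_mem_nil, or_false] at hj
        norm_num only at hjd'
        rcases hj with rfl | rfl | rfl | rfl | rfl | rfl <;> simp only [hjd', true_or, or_true]
      clear hx hy hxd hyd h2' hch hY
      interval_cases m <;> first | omega | exact Or.inl ⟨rfl, q, rfl⟩ | exact Or.inr (Or.inl ⟨rfl, q, rfl⟩) | exact Or.inr (Or.inr (Or.inl ⟨rfl, q, rfl⟩)) | exact Or.inr (Or.inr (Or.inr (Or.inl ⟨rfl, q, rfl⟩))) | exact Or.inr (Or.inr (Or.inr (Or.inr (Or.inl ⟨rfl, q, rfl⟩)))) | exact Or.inr (Or.inr (Or.inr (Or.inr (Or.inr (Or.inl ⟨rfl, q, rfl⟩))))) | exact Or.inr (Or.inr (Or.inr (Or.inr (Or.inr (Or.inr (⟨rfl, q, rfl⟩))))))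
    case g2 q =>
      have hx' : x ∈ [2, 6] := hx
      have hy' : y ∈ [2, 6] := hy
      have hxd' : 8 * 6 ∣ 12 * x := hxd
      have hyd' : 12 * 6 ∣ 12 * y := hyd
      have h4 : 2 * 6 ≤ 6 * 6 := h2'
      simp only [List.mem_cons, List.not_mem_nil, or_false] at hx' hy'
      clear hx hy hxd hyd h2' hch hY
      first | omega | exact Or.inl ⟨rfl, q, rfl⟩ | exact Or.inr (Or.inl ⟨rfl, q, rfl⟩) | exact Or.inr (Or.inr (Or.inl ⟨rfl, q, rfl⟩)) | exact Or.inr (Or.inr (Or.inr (Or.inl ⟨rfl, q, rfl⟩))) | exact Or.inr (Or.inr (Or.inr (Or.inr (Or.inl ⟨rfl, q, rfl⟩)))) | exact Or.inr (Or.inr (Or.inr (Or.inr (Or.inr (Or.inl ⟨rfl, q, rfl⟩))))) | exact Or.inr (Or.inr (Or.inr (Or.inr (Or.inr (Or.inr (⟨rfl, q, rfl⟩))))))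
    case f4 q =>
      have hx' : x ∈ [2, 6, 8, 12] := hx
      have hy' : y ∈ [2, 6, 8, 12] := hy
      have hxd' : 8 * 12 ∣ 12 * x := hxd
      have hyd' : 12 * 12 ∣ 12 * y := hyd
      have h4 : 2 * 24 ≤ 6 * 12 := h2'
      simp only [List.mem_cons, List.not_mem_nil, or_false] at hx' hy'
      clear hx hy hxd hyd h2' hch hY
      first | omega | exact Or.inl ⟨rfl, q, rfl⟩ | exact Or.inr (Or.inl ⟨rfl, q, rfl⟩) | exact Or.inr (Or.inr (Or.inl ⟨rfl, q, rfl⟩)) | exact Or.inr (Or.inr (Or.inr (Or.inl ⟨rfl, q, rfl⟩))) | exact Or.inr (Or.inr (Or.inr (Or.inr (Or.inl ⟨rfl, q, rfl⟩)))) | exact Or.inr (Or.inr (Or.inr (Or.inr (Or.inr (Or.inl ⟨rfl, q, rfl⟩))))) | exact Or.inr (Or.inr (Or.inr (Or.inr (Or.inr (Or.inr (⟨rfl, q, rfl⟩))))))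
    case e6 q =>
      have hx' : x ∈ [2, 5, 6, 8, 9, 12] := hx
      have hy' : y ∈ [2, 5, 6, 8, 9, 12] := hy
      have hxd' : 8 * 12 ∣ 12 * x := hxd
      have hyd' : 12 * 12 ∣ 12 * y := hyd
      have h4 : 2 * 36 ≤ 6 * 12 := h2'
      simp only [List.mem_cons, List.not_mem_nil, or_false] at hx' hy'
      clear hx hy hxd hyd h2' hch hY
      first | omega | exact Or.inl ⟨rfl, q, rfl⟩ | exact Or.inr (Or.inl ⟨rfl, q, rfl⟩) | exact Or.inr (Or.inr (Or.inl ⟨rfl, q, rfl⟩)) | exact Or.inr (Or.inr (Or.inr (Or.inl ⟨rfl, q, rfl⟩))) | exact Or.inr (Or.inr (Or.inr (Or.inr (Or.inl ⟨rfl, q, rfl⟩)))) | exact Or.inr (Or.inr (Or.inr (Or.inr (Or.inr (Or.inl ⟨rfl, q, rfl⟩))))) | exact Or.inr (Or.inr (Or.inr (Or.inr (Or.inr (Or.inr (⟨rfl, q, rfl⟩))))))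
    case e7 q =>
      have hx' : x ∈ [2, 6, 8, 10, 12, 14, 18] := hx
      have hy' : y ∈ [2, 6, 8, 10, 12, 14, 18] := hy
      have hxd' : 8 * 18 ∣ 12 * x := hxd
      have hyd' : 12 * 18 ∣ 12 * y := hyd
      have h4 : 2 * 63 ≤ 6 * 18 := h2'
      simp only [List.mem_cons, List.not_mem_nil, or_false] at hx' hy'
      clear hx hy hxd hyd h2' hch hY
      first | omega | exact Or.inl ⟨rfl, q, rfl⟩ | exact Or.inr (Or.inl ⟨rfl, q, rfl⟩) | exact Or.inr (Or.inr (Or.inl ⟨rfl, q, rfl⟩)) | exact Or.inr (Or.inr (Or.inr (Or.inl ⟨rfl, q, rfl⟩))) | exact Or.inr (Or.inr (Or.inr (Or.inr (Or.inl ⟨rfl, q, rfl⟩)))) | exact Or.inr (Or.inr (Or.inr (Or.inr (Or.inr (Or.inl ⟨rfl, q, rfl⟩))))) | exact Or.inr (Or.inr (Or.inr (Or.inr (Or.inr (Or.inr (⟨rfl, q, rfl⟩))))))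
    case e8 q =>
      have hx' : x ∈ [2, 8, 12, 14, 18, 20, 24, 30] := hx
      have hy' : y ∈ [2, 8, 12, 14, 18, 20, 24, 30] := hy
      have hxd' : 8 * 30 ∣ 12 * x := hxd
      have hyd' : 12 * 30 ∣ 12 * y := hyd
      have h4 : 2 * 120 ≤ 6 * 30 := h2'
      simp only [List.mem_cons, List.not_mem_nil, or_false] at hx' hy'
      clear hx hy hxd hyd h2' hch hY
      first | omega | exact Or.inl ⟨rfl, q, rfl⟩ | exact Or.inr (Or.inl ⟨rfl, q, rfl⟩) | exact Or.inr (Or.inr (Or.inl ⟨rfl, q, rfl⟩)) | exact Or.inr (Or.inr (Or.inr (Or.inl ⟨rfl, q, rfl⟩))) | exact Or.inr (Or.inr (Or.inr (Or.inr (Or.inl ⟨rfl, q, rfl⟩)))) | exact Or.inr (Or.inr (Or.inr (Or.inr (Or.inr (Or.inl ⟨rfl, q, rfl⟩))))) | exact Or.inr (Or.inr (Or.inr (Or.inr (Or.inr (Or.inr (⟨rfl, q, rfl⟩))))))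
    case te6 q =>
      have hx' : x ∈ [2, 10, 6, 8, 18, 12] := hx
      have hy' : y ∈ [2, 10, 6, 8, 18, 12] := hy
      have hxd' : 8 * 18 ∣ 12 * x := hxd
      have hyd' : 12 * 18 ∣ 12 * y := hyd
      have h4 : 2 * 36 ≤ 6 * 18 := h2'
      obtain ⟨j, hj, hjd⟩ := hY 8 (by norm_num) (show 8 ∈ [2, 3, 4, 6, 8, 10, 12, 18] by decide)
      have hjd' : 12 * 8 ∣ 18 * j := hjd
      simp only [List.mem_cons, List.not_mem_nil, or_false] at hj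
      simp only [List.mem_cons, List.not_mem_nil, or_false] at hx' hy'
      clear hx hy hxd hyd h2' hch hY
      first | omega | exact Or.inl ⟨rfl, q, rfl⟩ | exact Or.inr (Or.inl ⟨rfl, q, rfl⟩) | exact Or.inr (Or.inr (Or.inl ⟨rfl, q, rfl⟩)) | exact Or.inr (Or.inr (Or.inr (Or.inl ⟨rfl, q, rfl⟩))) | exact Or.inr (Or.inr (Or.inr (Or.inr (Or.inl ⟨rfl, q, rfl⟩)))) | exact Or.inr (Or.inr (Or.inr (Or.inr (Or.inr (Or.inl ⟨rfl, q, rfl⟩))))) | exact Or.inr (Or.inr (Or.inr (Or.inr (Or.inr (Or.inr (⟨rfl, q, rfl⟩))))))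
    case td4 q =>
      have hx' : x ∈ [2, 6, 12] := hx
      have hy' : y ∈ [2, 6, 12] := hy
      have hxd' : 8 * 12 ∣ 12 * x := hxd
      have hyd' : 12 * 12 ∣ 12 * y := hyd
      have h4 : 2 * 12 ≤ 6 * 12 := h2'
      simp only [List.mem_cons, List.not_mem_nil, or_false] at hx' hy'
      clear hx hy hxd hyd h2' hch hY
      first | omega | exact Or.inl ⟨rfl, q, rfl⟩ | exact Or.inr (Or.inl ⟨rfl, q, rfl⟩) | exact Or.inr (Or.inr (Or.inl ⟨rfl, q, rfl⟩)) | exact Or.inr (Or.inr (Or.inr (Or.inl ⟨rfl, q, rfl⟩))) | exact Or.inr (Or.inr (Or.inr (Or.inr (Or.inl ⟨rfl, q, rfl⟩)))) | exact Or.inr (Or.inr (Or.inr (Or.inr (Or.inr (Or.inl ⟨rfl, q, rfl⟩))))) | exact Or.inr (Or.inr (Or.inr (Or.inr (Or.inr (Or.inr (⟨rfl, q, rfl⟩))))))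
    case sz q =>
      have hx' : x ∈ [1, 4] := hx
      have hy' : y ∈ [1, 4] := hy
      have hxd' : 8 * 4 ∣ 12 * x := hxd
      have hyd' : 12 * 4 ∣ 12 * y := hyd
      have h4 : 2 * 2 ≤ 6 * 4 := h2'
      simp only [List.mem_cons, List.not_mem_nil, or_false] at hx' hy'
      clear hx hy hxd hyd h2' hch hY
      first | omega | exact Or.inl ⟨rfl, q, rfl⟩ | exact Or.inr (Or.inl ⟨rfl, q, rfl⟩) | exact Or.inr (Or.inr (Or.inl ⟨rfl, q, rfl⟩)) | exact Or.inr (Or.inr (Or.inr (Or.inl ⟨rfl, q, rfl⟩))) | exact Or.inr (Or.inr (Or.inr (Or.inr (Or.inl ⟨rfl, q, rfl⟩)))) | exact Or.inr (Or.inr (Or.inr (Or.inr (Or.inr (Or.inl ⟨rfl, q, rfl⟩))))) | exact Or.inr (Or.inr (Or.inr (Or.inr (Or.inr (Or.inr (⟨rfl, q, rfl⟩))))))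
    case ree q =>
      have hx' : x ∈ [1, 6] := hx
      have hy' : y ∈ [1, 6] := hy
      have hxd' : 8 * 6 ∣ 12 * x := hxd
      have hyd' : 12 * 6 ∣ 12 * y := hyd
      have h4 : 2 * 3 ≤ 6 * 6 := h2'
      simp only [List.mem_cons, List.not_mem_nil, or_false] at hx' hy'
      clear hx hy hxd hyd h2' hch hY
      first | omega | exact Or.inl ⟨rfl, q, rfl⟩ | exact Or.inr (Or.inl ⟨rfl, q, rfl⟩) | exact Or.inr (Or.inr (Or.inl ⟨rfl, q, rfl⟩)) | exact Or.inr (Or.inr (Or.inr (Or.inl ⟨rfl, q, rfl⟩))) | exact Or.inr (Or.inr (Or.inr (Or.inr (Or.inl ⟨rfl, q, rfl⟩)))) | exact Or.inr (Or.inr (Or.inr (Or.inr (Or.inr (Or.inl ⟨rfl, q, rfl⟩))))) | exact Or.inr (Or.inr (Or.inr (Or.inr (Or.inr (Or.inr (⟨rfl, q, rfl⟩))))))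
    case tf4 q =>
      have hx' : x ∈ [1, 6, 4, 12] := hx
      have hy' : y ∈ [1, 6, 4, 12] := hy
      have hxd' : 8 * 12 ∣ 12 * x := hxd
      have hyd' : 12 * 12 ∣ 12 * y := hyd
      have h4 : 2 * 12 ≤ 6 * 12 := h2'
      simp only [List.mem_cons, List.not_mem_nil, or_false] at hx' hy'
      clear hx hy hxd hyd h2' hch hY
      first | omega | exact Or.inl ⟨rfl, q, rfl⟩ | exact Or.inr (Or.inl ⟨rfl, q, rfl⟩) | exact Or.inr (Or.inr (Or.inl ⟨rfl, q, rfl⟩)) | exact Or.inr (Or.inr (Or.inr (Or.inl ⟨rfl, q, rfl⟩))) | exact Or.inr (Or.inr (Or.inr (Or.inr (Or.inl ⟨rfl, q, rfl⟩)))) | exact Or.inr (Or.inr (Or.inr (Or.inr (Or.inr (Or.inl ⟨rfl, q, rfl⟩))))) | exact Or.inr (Or.inr (Or.inr (Or.inr (Or.inr (Or.inr (⟨rfl, q, rfl⟩))))))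
    all_goals exact absurd hch not_false

theorem elimP_te6_8_12 (hg : Cond g) (hch : HasChar p g) {i : ℕ} (hi : i ∈ [2, 10, 6, 8, 18, 12]) (hei : 12 ≤ i)
    (h2 : ag g * i ≤ 36 * Mg g) (h1 : ∃ x, Xg g x ∧ 8 * Mg g ∣ i * x) (h3 : ∃ x, Xg g x ∧ 12 * Mg g ∣ i * x)
    (hY : ∀ k, (k = 4 ∨ k = 5 ∨ 7 ≤ k) → Yg g k → ∃ j, j ∈ [2, 10, 6, 8, 18, 12] ∧ i * k ∣ Mg g * j) :
    (i = 18 ∧ ∃ q, g = .te6 q) ∨ (i = 12 ∧ ∃ q, g = .f4 q) ∨ (i = 12 ∧ ∃ q, g = .psl 3 q) ∨ (i = 12 ∧ ∃ q, g = .psp 3 q) ∨ (i = 12 ∧ ∃ q, g = .oodd 3 q) ∨ (i = 12 ∧ ∃ q, g = .psu 4 q) ∨ (i = 12 ∧ ∃ q, g = .oplus 4 q) ∨ (i = 12 ∧ ∃ q, g = .psl 6 q) ∨ (i = 12 ∧ ∃ q, g = .psp 6 q) ∨ (i = 12 ∧ ∃ q, g = .oodd 6 q) ∨ (i = 12 ∧ ∃ q, g = .ominus 6 q) ∨ (i = 12 ∧ ∃ q, g = .e6 q) := by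
  obtain ⟨x, hx, hxd⟩ := h1
  obtain ⟨y, hy, hyd⟩ := h3
  have hi2 : i = 18 ∨ i = 12 := by
    simp only [List.mem_cons, List.not_mem_nil, or_false] at hi
    omega
  clear hi hei
  rcases hi2 with rfl | rfl
  · have h2' : 2 * ag g ≤ 4 * Mg g := by omega
    clear h2
    cases g
    case psl m q =>
      obtain ⟨hm, -, -⟩ := hg
      have hb := bd_psl (ρ := 4) (by omega) h2'
      have hx' : 1 ≤ x ∧ x ≤ m := hx
      have hy' : 1 ≤ y ∧ y ≤ m := hy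
      have hxd' : 8 * m ∣ 18 * x := hxd
      have hyd' : 12 * m ∣ 18 * y := hyd
      clear hx hy hxd hyd h2' hch hY
      interval_cases m <;> first | omega | exact Or.inl ⟨rfl, q, rfl⟩ | exact Or.inr (Or.inl ⟨rfl, q, rfl⟩) | exact Or.inr (Or.inr (Or.inl ⟨rfl, q, rfl⟩)) | exact Or.inr (Or.inr (Or.inr (Or.inl ⟨rfl, q, rfl⟩))) | exact Or.inr (Or.inr (Or.inr (Or.inr (Or.inl ⟨rfl, q, rfl⟩)))) | exact Or.inr (Or.inr (Or.inr (Or.inr (Or.inr (Or.inl ⟨rfl, q, rfl⟩))))) | exact Or.inr (Or.inr (Or.inr (Or.inr (Or.inr (Or.inr (Or.inl ⟨rfl, q, rfl⟩)))))) | exact Or.inr (Or.inr (Or.inr (Or.inr (Or.inr (Or.inr (Or.inr (Or.inl ⟨rfl, q, rfl⟩))))))) | exact Or.inr (Or.inr (Or.inr (Or.inr (Or.inr (Or.inr (Or.inr (Or.inr (Or.inl ⟨rfl, q, rfl⟩)))))))) | exact Or.inr (Or.inr (Or.inr (Or.inr (Or.inr (Or.inr (Or.inr (Or.inr (Or.inr (Or.inl ⟨rfl,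 q, rfl⟩))))))))) | exact Or.inr (Or.inr (Or.inr (Or.inr (Or.inr (Or.inr (Or.inr (Or.inr (Or.inr (Or.inr (Or.inl ⟨rfl, q, rfl⟩)))))))))) | exact Or.inr (Or.inr (Or.inr (Or.inr (Or.inr (Or.inr (Or.inr (Or.inr (Or.inr (Or.inr (Or.inr (⟨rfl, q, rfl⟩)))))))))))
    case psp m q =>
      obtain ⟨hm, -, -⟩ := hg
      have hb := bd_psp (ρ := 4) (by omega) h2'
      have hx' : 1 ≤ x ∧ x ≤ 2 * m ∧ 2 ∣ x := hx
      have hy' : 1 ≤ y ∧ y ≤ 2 * m ∧ 2 ∣ y := hy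
      have hxd' : 8 * (2 * m) ∣ 18 * x := hxd
      have hyd' : 12 * (2 * m) ∣ 18 * y := hyd
      clear hx hy hxd hyd h2' hch hY
      interval_cases m <;> first | omega | exact Or.inl ⟨rfl, q, rfl⟩ | exact Or.inr (Or.inl ⟨rfl, q, rfl⟩) | exact Or.inr (Or.inr (Or.inl ⟨rfl, q, rfl⟩)) | exact Or.inr (Or.inr (Or.inr (Or.inl ⟨rfl, q, rfl⟩))) | exact Or.inr (Or.inr (Or.inr (Or.inr (Or.inl ⟨rfl, q, rfl⟩)))) | exact Or.inr (Or.inr (Or.inr (Or.inr (Or.inr (Or.inl ⟨rfl, q, rfl⟩))))) | exact Or.inr (Or.inr (Or.inr (Or.inr (Or.inr (Or.inr (Or.inl ⟨rfl, q, rfl⟩)))))) | exact Or.inr (Or.inr (Or.inr (Or.inr (Or.inr (Or.inr (Or.inr (Or.inl ⟨rfl, q, rfl⟩))))))) | exact Or.inr (Or.inr (Or.inr (Or.inr (Or.inr (Or.inr (Or.inr (Or.inr (Or.inl ⟨rfl, q, rfl⟩)))))))) | exact Or.inr (Or.inr (Or.inr (Or.inr (Or.inr (Or.inr (Or.inr (Or.inr (Or.inr (Or.inl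 ⟨rfl, q, rfl⟩))))))))) | exact Or.inr (Or.inr (Or.inr (Or.inr (Or.inr (Or.inr (Or.inr (Or.inr (Or.inr (Or.inr (Or.inl ⟨rfl, q, rfl⟩)))))))))) | exact Or.inr (Or.inr (Or.inr (Or.inr (Or.inr (Or.inr (Or.inr (Or.inr (Or.inr (Or.inr (Or.inr (⟨rfl, q, rfl⟩)))))))))))
    case oodd m q =>
      obtain ⟨hm, -, -⟩ := hg
      have hb := bd_psp (ρ := 4) (by omega) h2'
      have hx' : 1 ≤ x ∧ x ≤ 2 * m ∧ 2 ∣ x := hx
      have hy' : 1 ≤ y ∧ y ≤ 2 * m ∧ 2 ∣ y := hy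
      have hxd' : 8 * (2 * m) ∣ 18 * x := hxd
      have hyd' : 12 * (2 * m) ∣ 18 * y := hyd
      clear hx hy hxd hyd h2' hch hY
      interval_cases m <;> first | omega | exact Or.inl ⟨rfl, q, rfl⟩ | exact Or.inr (Or.inl ⟨rfl, q, rfl⟩) | exact Or.inr (Or.inr (Or.inl ⟨rfl, q, rfl⟩)) | exact Or.inr (Or.inr (Or.inr (Or.inl ⟨rfl, q, rfl⟩))) | exact Or.inr (Or.inr (Or.inr (Or.inr (Or.inl ⟨rfl, q, rfl⟩)))) | exact Or.inr (Or.inr (Or.inr (Or.inr (Or.inr (Or.inl ⟨rfl, q, rfl⟩))))) | exact Or.inr (Or.inr (Or.inr (Or.inr (Or.inr (Or.inr (Or.inl ⟨rfl, q, rfl⟩)))))) | exact Or.inr (Or.inr (Or.inr (Or.inr (Or.inr (Or.inr (Or.inr (Or.inl ⟨rfl, q, rfl⟩))))))) | exact Or.inr (Or.inr (Or.inr (Or.inr (Or.inr (Or.inr (Or.inr (Or.inr (Or.inl ⟨rfl, q, rfl⟩)))))))) | exact Or.inr (Or.inr (Or.inr (Or.inr (Or.inr (Or.inr (Or.inr (Or.inr (Or.inr (Or.inl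 ⟨rfl, q, rfl⟩))))))))) | exact Or.inr (Or.inr (Or.inr (Or.inr (Or.inr (Or.inr (Or.inr (Or.inr (Or.inr (Or.inr (Or.inl ⟨rfl, q, rfl⟩)))))))))) | exact Or.inr (Or.inr (Or.inr (Or.inr (Or.inr (Or.inr (Or.inr (Or.inr (Or.inr (Or.inr (Or.inr (⟨rfl, q, rfl⟩)))))))))))
    case psu m q =>
      obtain ⟨hm, -, -⟩ := hg
      have hb := bd_psu (ρ := 4) hm h2'
      have hx' : (1 ≤ x ∧ x ≤ m ∧ 2 ∣ x) ∨ ∃ j, x = 2 * j ∧ j ≤ m ∧ j % 2 = 1 := hx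
      have hy' : (1 ≤ y ∧ y ≤ m ∧ 2 ∣ y) ∨ ∃ j, y = 2 * j ∧ j ≤ m ∧ j % 2 = 1 := hy
      obtain ⟨k, hk⟩ : ∃ k, k = (if m % 2 = 0 then m - 1 else m) := ⟨_, rfl⟩
      have hk' : (m % 2 = 0 ∧ k = m - 1) ∨ (m % 2 = 1 ∧ k = m) := by
        rw [hk]
        split_ifs <;> omega
      have hM : Mg (.psu m q) = 2 * k := by rw [hk]; rfl
      have hxd' : 8 * (2 * k) ∣ 18 * x := hM ▸ hxd
      have hyd' : 12 * (2 * k) ∣ 18 * y := hM ▸ hyd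
      clear hx hy hxd hyd h2' hch hY hM hk
      rcases hk' with ⟨hk1, hk2⟩ | ⟨hk1, hk2⟩ <;> rcases hx' with hx' | ⟨j, rfl, hx'⟩ <;>
        rcases hy' with hy' | ⟨l, rfl, hy'⟩ <;> interval_cases m <;> subst hk2 <;> first | omega | exact Or.inl ⟨rfl, q, rfl⟩ | exact Or.inr (Or.inl ⟨rfl, q, rfl⟩) | exact Or.inr (Or.inr (Or.inl ⟨rfl, q, rfl⟩)) | exact Or.inr (Or.inr (Or.inr (Or.inl ⟨rfl, q, rfl⟩))) | exact Or.inr (Or.inr (Or.inr (Or.inr (Or.inl ⟨rfl, q, rfl⟩)))) | exact Or.inr (Or.inr (Or.inr (Or.inr (Or.inr (Or.inl ⟨rfl, q, rfl⟩))))) | exact Or.inr (Or.inr (Or.inr (Or.inr (Or.inr (Or.inr (Or.inl ⟨rfl, q, rfl⟩)))))) | exact Or.inr (Or.inr (Or.inr (Or.inr (Or.inr (Or.inr (Or.inr (Or.inl ⟨rfl, q, rfl⟩))))))) | exact Or.inr (Or.inr (Or.inr (Or.inr (Or.inr (Or.inr (Or.inr (Or.inr (Or.inl ⟨rfl, q, rfl⟩)))))))) | exact Or.inr (Or.inr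 (Or.inr (Or.inr (Or.inr (Or.inr (Or.inr (Or.inr (Or.inr (Or.inl ⟨rfl, q, rfl⟩))))))))) | exact Or.inr (Or.inr (Or.inr (Or.inr (Or.inr (Or.inr (Or.inr (Or.inr (Or.inr (Or.inr (Or.inl ⟨rfl, q, rfl⟩)))))))))) | exact Or.inr (Or.inr (Or.inr (Or.inr (Or.inr (Or.inr (Or.inr (Or.inr (Or.inr (Or.inr (Or.inr (⟨rfl, q, rfl⟩)))))))))))
    case oplus m q =>
      obtain ⟨hm, -⟩ := hg
      have hb := bd_oplus (ρ := 4) (by omega) h2'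
      have hx' : 1 ≤ x ∧ x ≤ 2 * (m - 1) ∧ (2 ∣ x ∨ x = m) := hx
      have hy' : 1 ≤ y ∧ y ≤ 2 * (m - 1) ∧ (2 ∣ y ∨ y = m) := hy
      have hxd' : 8 * (2 * (m - 1)) ∣ 18 * x := hxd
      have hyd' : 12 * (2 * (m - 1)) ∣ 18 * y := hyd
      clear hx hy hxd hyd h2' hch hY
      interval_cases m <;> first | omega | exact Or.inl ⟨rfl, q, rfl⟩ | exact Or.inr (Or.inl ⟨rfl, q, rfl⟩) | exact Or.inr (Or.inr (Or.inl ⟨rfl, q, rfl⟩)) | exact Or.inr (Or.inr (Or.inr (Or.inl ⟨rfl, q, rfl⟩))) | exact Or.inr (Or.inr (Or.inr (Or.inr (Or.inl ⟨rfl, q, rfl⟩)))) | exact Or.inr (Or.inr (Or.inr (Or.inr (Or.inr (Or.inl ⟨rfl, q, rfl⟩))))) | exact Or.inr (Or.inr (Or.inr (Or.inr (Or.inr (Or.inr (Or.inl ⟨rfl, q, rfl⟩)))))) | exact Or.inr (Or.inr (Or.inr (Or.inr (Or.inr (Or.inr (Or.inr (Or.inl ⟨rfl, q, rfl⟩))))))) | exact Or.inr (Or.inr (Or.inr (Or.inr (Or.inr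 (Or.inr (Or.inr (Or.inr (Or.inl ⟨rfl, q, rfl⟩)))))))) | exact Or.inr (Or.inr (Or.inr (Or.inr (Or.inr (Or.inr (Or.inr (Or.inr (Or.inr (Or.inl ⟨rfl, q, rfl⟩))))))))) | exact Or.inr (Or.inr (Or.inr (Or.inr (Or.inr (Or.inr (Or.inr (Or.inr (Or.inr (Or.inr (Or.inl ⟨rfl, q, rfl⟩)))))))))) | exact Or.inr (Or.inr (Or.inr (Or.inr (Or.inr (Or.inr (Or.inr (Or.inr (Or.inr (Or.inr (Or.inr (⟨rfl, q, rfl⟩)))))))))))
    case ominus m q =>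
      obtain ⟨hm, -⟩ := hg
      have hb := bd_ominus (ρ := 4) (by omega) h2'
      have hx' : 1 ≤ x ∧ x ≤ 2 * m ∧ 2 ∣ x := hx
      have hy' : 1 ≤ y ∧ y ≤ 2 * m ∧ 2 ∣ y := hy
      have hxd' : 8 * (2 * m) ∣ 18 * x := hxd
      have hyd' : 12 * (2 * m) ∣ 18 * y := hyd
      clear hx hy hxd hyd h2' hch hY
      interval_cases m <;> first | omega | exact Or.inl ⟨rfl, q, rfl⟩ | exact Or.inr (Or.inl ⟨rfl, q, rfl⟩) | exact Or.inr (Or.inr (Or.inl ⟨rfl, q, rfl⟩)) | exact Or.inr (Or.inr (Or.inr (Or.inl ⟨rfl, q, rfl⟩))) | exact Or.inr (Or.inr (Or.inr (Or.inr (Or.inl ⟨rfl, q, rfl⟩)))) | exact Or.inr (Or.inr (Or.inr (Or.inr (Or.inr (Or.inl ⟨rfl, q, rfl⟩))))) | exact Or.inr (Or.inr (Or.inr (Or.inr (Or.inr (Or.inr (Or.inl ⟨rfl, q, rfl⟩)))))) | exact Or.inr (Or.inr (Or.inr (Or.inr (Or.inr (Or.inr (Or.inr (Or.inl ⟨rfl, q, rfl⟩))))))) | exact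 Or.inr (Or.inr (Or.inr (Or.inr (Or.inr (Or.inr (Or.inr (Or.inr (Or.inl ⟨rfl, q, rfl⟩)))))))) | exact Or.inr (Or.inr (Or.inr (Or.inr (Or.inr (Or.inr (Or.inr (Or.inr (Or.inr (Or.inl ⟨rfl, q, rfl⟩))))))))) | exact Or.inr (Or.inr (Or.inr (Or.inr (Or.inr (Or.inr (Or.inr (Or.inr (Or.inr (Or.inr (Or.inl ⟨rfl, q, rfl⟩)))))))))) | exact Or.inr (Or.inr (Or.inr (Or.inr (Or.inr (Or.inr (Or.inr (Or.inr (Or.inr (Or.inr (Or.inr (⟨rfl, q, rfl⟩)))))))))))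
    case g2 q =>
      have hx' : x ∈ [2, 6] := hx
      have hy' : y ∈ [2, 6] := hy
      have hxd' : 8 * 6 ∣ 18 * x := hxd
      have hyd' : 12 * 6 ∣ 18 * y := hyd
      have h4 : 2 * 6 ≤ 4 * 6 := h2'
      simp only [List.mem_cons, List.not_mem_nil, or_false] at hx' hy'
      clear hx hy hxd hyd h2' hch hY
      first | omega | exact Or.inl ⟨rfl, q, rfl⟩ | exact Or.inr (Or.inl ⟨rfl, q, rfl⟩) | exact Or.inr (Or.inr (Or.inl ⟨rfl, q, rfl⟩)) | exact Or.inr (Or.inr (Or.inr (Or.inl ⟨rfl, q, rfl⟩))) | exact Or.inr (Or.inr (Or.inr (Or.inr (Or.inl ⟨rfl, q, rfl⟩)))) | exact Or.inr (Or.inr (Or.inr (Or.inr (Or.inr (Or.inl ⟨rfl, q, rfl⟩))))) | exact Or.inr (Or.inr (Or.inr (Or.inr (Or.inr (Or.inr (Or.inl ⟨rfl, q, rfl⟩)))))) | exact Or.inr (Or.inr (Or.inr (Or.inr (Or.inr (Or.inr (Or.inr (Or.inl ⟨rfl, q, rfl⟩))))))) | exact Or.inr (Or.inr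 (Or.inr (Or.inr (Or.inr (Or.inr (Or.inr (Or.inr (Or.inl ⟨rfl, q, rfl⟩)))))))) | exact Or.inr (Or.inr (Or.inr (Or.inr (Or.inr (Or.inr (Or.inr (Or.inr (Or.inr (Or.inl ⟨rfl, q, rfl⟩))))))))) | exact Or.inr (Or.inr (Or.inr (Or.inr (Or.inr (Or.inr (Or.inr (Or.inr (Or.inr (Or.inr (Or.inl ⟨rfl, q, rfl⟩)))))))))) | exact Or.inr (Or.inr (Or.inr (Or.inr (Or.inr (Or.inr (Or.inr (Or.inr (Or.inr (Or.inr (Or.inr (⟨rfl, q, rfl⟩)))))))))))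
    case f4 q =>
      have hx' : x ∈ [2, 6, 8, 12] := hx
      have hy' : y ∈ [2, 6, 8, 12] := hy
      have hxd' : 8 * 12 ∣ 18 * x := hxd
      have hyd' : 12 * 12 ∣ 18 * y := hyd
      have h4 : 2 * 24 ≤ 4 * 12 := h2'
      simp only [List.mem_cons, List.not_mem_nil, or_false] at hx' hy'
      clear hx hy hxd hyd h2' hch hY
      first | omega | exact Or.inl ⟨rfl, q, rfl⟩ | exact Or.inr (Or.inl ⟨rfl, q, rfl⟩) | exact Or.inr (Or.inr (Or.inl ⟨rfl, q, rfl⟩)) | exact Or.inr (Or.inr (Or.inr (Or.inl ⟨rfl, q, rfl⟩))) | exact Or.inr (Or.inr (Or.inr (Or.inr (Or.inl ⟨rfl, q, rfl⟩)))) | exact Or.inr (Or.inr (Or.inr (Or.inr (Or.inr (Or.inl ⟨rfl, q, rfl⟩))))) | exact Or.inr (Or.inr (Or.inr (Or.inr (Or.inr (Or.inr (Or.inl ⟨rfl, q, rfl⟩)))))) | exact Or.inr (Or.inr (Or.inr (Or.inr (Or.inr (Or.inr (Or.inr (Or.inl ⟨rfl, q, rfl⟩))))))) | exact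 Or.inr (Or.inr (Or.inr (Or.inr (Or.inr (Or.inr (Or.inr (Or.inr (Or.inl ⟨rfl, q, rfl⟩)))))))) | exact Or.inr (Or.inr (Or.inr (Or.inr (Or.inr (Or.inr (Or.inr (Or.inr (Or.inr (Or.inl ⟨rfl, q, rfl⟩))))))))) | exact Or.inr (Or.inr (Or.inr (Or.inr (Or.inr (Or.inr (Or.inr (Or.inr (Or.inr (Or.inr (Or.inl ⟨rfl, q, rfl⟩)))))))))) | exact Or.inr (Or.inr (Or.inr (Or.inr (Or.inr (Or.inr (Or.inr (Or.inr (Or.inr (Or.inr (Or.inr (⟨rfl, q, rfl⟩)))))))))))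
    case e6 q =>
      have hx' : x ∈ [2, 5, 6, 8, 9, 12] := hx
      have hy' : y ∈ [2, 5, 6, 8, 9, 12] := hy
      have hxd' : 8 * 12 ∣ 18 * x := hxd
      have hyd' : 12 * 12 ∣ 18 * y := hyd
      have h4 : 2 * 36 ≤ 4 * 12 := h2'
      simp only [List.mem_cons, List.not_mem_nil, or_false] at hx' hy'
      clear hx hy hxd hyd h2' hch hY
      first | omega | exact Or.inl ⟨rfl, q, rfl⟩ | exact Or.inr (Or.inl ⟨rfl, q, rfl⟩) | exact Or.inr (Or.inr (Or.inl ⟨rfl, q, rfl⟩)) | exact Or.inr (Or.inr (Or.inr (Or.inl ⟨rfl, q, rfl⟩))) | exact Or.inr (Or.inr (Or.inr (Or.inr (Or.inl ⟨rfl, q, rfl⟩)))) | exact Or.inr (Or.inr (Or.inr (Or.inr (Or.inr (Or.inl ⟨rfl, q, rfl⟩))))) | exact Or.inr (Or.inr (Or.inr (Or.inr (Or.inr (Or.inr (Or.inl ⟨rfl, q, rfl⟩)))))) | exact Or.inr (Or.inr (Or.inr (Or.inr (Or.inr (Or.inr (Or.inr (Or.inl ⟨rfl, q, rfl⟩)))))))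 | exact Or.inr (Or.inr (Or.inr (Or.inr (Or.inr (Or.inr (Or.inr (Or.inr (Or.inl ⟨rfl, q, rfl⟩)))))))) | exact Or.inr (Or.inr (Or.inr (Or.inr (Or.inr (Or.inr (Or.inr (Or.inr (Or.inr (Or.inl ⟨rfl, q, rfl⟩))))))))) | exact Or.inr (Or.inr (Or.inr (Or.inr (Or.inr (Or.inr (Or.inr (Or.inr (Or.inr (Or.inr (Or.inl ⟨rfl, q, rfl⟩)))))))))) | exact Or.inr (Or.inr (Or.inr (Or.inr (Or.inr (Or.inr (Or.inr (Or.inr (Or.inr (Or.inr (Or.inr (⟨rfl, q, rfl⟩)))))))))))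
    case e7 q =>
      have hx' : x ∈ [2, 6, 8, 10, 12, 14, 18] := hx
      have hy' : y ∈ [2, 6, 8, 10, 12, 14, 18] := hy
      have hxd' : 8 * 18 ∣ 18 * x := hxd
      have hyd' : 12 * 18 ∣ 18 * y := hyd
      have h4 : 2 * 63 ≤ 4 * 18 := h2'
      simp only [List.mem_cons, List.not_mem_nil, or_false] at hx' hy'
      clear hx hy hxd hyd h2' hch hY
      first | omega | exact Or.inl ⟨rfl, q, rfl⟩ | exact Or.inr (Or.inl ⟨rfl, q, rfl⟩) | exact Or.inr (Or.inr (Or.inl ⟨rfl, q, rfl⟩)) | exact Or.inr (Or.inr (Or.inr (Or.inl ⟨rfl, q, rfl⟩))) | exact Or.inr (Or.inr (Or.inr (Or.inr (Or.inl ⟨rfl, q, rfl⟩)))) | exact Or.inr (Or.inr (Or.inr (Or.inr (Or.inr (Or.inl ⟨rfl, q, rfl⟩))))) | exact Or.inr (Or.inr (Or.inr (Or.inr (Or.inr (Or.inr (Or.inl ⟨rfl, q, rfl⟩)))))) | exact Or.inr (Or.inr (Or.inr (Or.inr (Or.inr (Or.inr (Or.inr (Or.inl ⟨rfl,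 q, rfl⟩))))))) | exact Or.inr (Or.inr (Or.inr (Or.inr (Or.inr (Or.inr (Or.inr (Or.inr (Or.inl ⟨rfl, q, rfl⟩)))))))) | exact Or.inr (Or.inr (Or.inr (Or.inr (Or.inr (Or.inr (Or.inr (Or.inr (Or.inr (Or.inl ⟨rfl, q, rfl⟩))))))))) | exact Or.inr (Or.inr (Or.inr (Or.inr (Or.inr (Or.inr (Or.inr (Or.inr (Or.inr (Or.inr (Or.inl ⟨rfl, q, rfl⟩)))))))))) | exact Or.inr (Or.inr (Or.inr (Or.inr (Or.inr (Or.inr (Or.inr (Or.inr (Or.inr (Or.inr (Or.inr (⟨rfl, q, rfl⟩)))))))))))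
    case e8 q =>
      have hx' : x ∈ [2, 8, 12, 14, 18, 20, 24, 30] := hx
      have hy' : y ∈ [2, 8, 12, 14, 18, 20, 24, 30] := hy
      have hxd' : 8 * 30 ∣ 18 * x := hxd
      have hyd' : 12 * 30 ∣ 18 * y := hyd
      have h4 : 2 * 120 ≤ 4 * 30 := h2'
      simp only [List.mem_cons, List.not_mem_nil, or_false] at hx' hy'
      clear hx hy hxd hyd h2' hch hY
      first | omega | exact Or.inl ⟨rfl, q, rfl⟩ | exact Or.inr (Or.inl ⟨rfl, q, rfl⟩) | exact Or.inr (Or.inr (Or.inl ⟨rfl, q, rfl⟩)) | exact Or.inr (Or.inr (Or.inr (Or.inl ⟨rfl, q, rfl⟩))) | exact Or.inr (Or.inr (Or.inr (Or.inr (Or.inl ⟨rfl, q, rfl⟩)))) | exact Or.inr (Or.inr (Or.inr (Or.inr (Or.inr (Or.inl ⟨rfl, q, rfl⟩))))) | exact Or.inr (Or.inr (Or.inr (Or.inr (Or.inr (Or.inr (Or.inl ⟨rfl, q, rfl⟩)))))) | exact Or.inr (Or.inr (Or.inr (Or.inr (Or.inr (Or.inr (Or.inr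 (Or.inl ⟨rfl, q, rfl⟩))))))) | exact Or.inr (Or.inr (Or.inr (Or.inr (Or.inr (Or.inr (Or.inr (Or.inr (Or.inl ⟨rfl, q, rfl⟩)))))))) | exact Or.inr (Or.inr (Or.inr (Or.inr (Or.inr (Or.inr (Or.inr (Or.inr (Or.inr (Or.inl ⟨rfl, q, rfl⟩))))))))) | exact Or.inr (Or.inr (Or.inr (Or.inr (Or.inr (Or.inr (Or.inr (Or.inr (Or.inr (Or.inr (Or.inl ⟨rfl, q, rfl⟩)))))))))) | exact Or.inr (Or.inr (Or.inr (Or.inr (Or.inr (Or.inr (Or.inr (Or.inr (Or.inr (Or.inr (Or.inr (⟨rfl, q, rfl⟩)))))))))))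
    case te6 q =>
      have hx' : x ∈ [2, 10, 6, 8, 18, 12] := hx
      have hy' : y ∈ [2, 10, 6, 8, 18, 12] := hy
      have hxd' : 8 * 18 ∣ 18 * x := hxd
      have hyd' : 12 * 18 ∣ 18 * y := hyd
      have h4 : 2 * 36 ≤ 4 * 18 := h2'
      obtain ⟨j, hj, hjd⟩ := hY 8 (by norm_num) (show 8 ∈ [2, 3, 4, 6, 8, 10, 12, 18] by decide)
      have hjd' : 18 * 8 ∣ 18 * j := hjd
      simp only [List.mem_cons, List.not_mem_nil, or_false] at hj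
      simp only [List.mem_cons, List.not_mem_nil, or_false] at hx' hy'
      clear hx hy hxd hyd h2' hch hY
      first | omega | exact Or.inl ⟨rfl, q, rfl⟩ | exact Or.inr (Or.inl ⟨rfl, q, rfl⟩) | exact Or.inr (Or.inr (Or.inl ⟨rfl, q, rfl⟩)) | exact Or.inr (Or.inr (Or.inr (Or.inl ⟨rfl, q, rfl⟩))) | exact Or.inr (Or.inr (Or.inr (Or.inr (Or.inl ⟨rfl, q, rfl⟩)))) | exact Or.inr (Or.inr (Or.inr (Or.inr (Or.inr (Or.inl ⟨rfl, q, rfl⟩))))) | exact Or.inr (Or.inr (Or.inr (Or.inr (Or.inr (Or.inr (Or.inl ⟨rfl, q, rfl⟩)))))) | exact Or.inr (Or.inr (Or.inr (Or.inr (Or.inr (Or.inr (Or.inr (Or.inl ⟨rfl, q, rfl⟩))))))) | exact Or.inr (Or.inr (Or.inr (Or.inr (Or.inr (Or.inr (Or.inr (Or.inr (Or.inl ⟨rfl, q, rfl⟩)))))))) | exact Or.inr (Or.inr (Or.inr (Or.inr (Or.inr (Or.inr (Or.inr (Or.inr (Or.inr (Or.inl ⟨rfl, q, rfl⟩))))))))) | exact Or.inr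 (Or.inr (Or.inr (Or.inr (Or.inr (Or.inr (Or.inr (Or.inr (Or.inr (Or.inr (Or.inl ⟨rfl, q, rfl⟩)))))))))) | exact Or.inr (Or.inr (Or.inr (Or.inr (Or.inr (Or.inr (Or.inr (Or.inr (Or.inr (Or.inr (Or.inr (⟨rfl, q, rfl⟩)))))))))))
    case td4 q =>
      have hx' : x ∈ [2, 6, 12] := hx
      have hy' : y ∈ [2, 6, 12] := hy
      have hxd' : 8 * 12 ∣ 18 * x := hxd
      have hyd' : 12 * 12 ∣ 18 * y := hyd
      have h4 : 2 * 12 ≤ 4 * 12 := h2'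
      simp only [List.mem_cons, List.not_mem_nil, or_false] at hx' hy'
      clear hx hy hxd hyd h2' hch hY
      first | omega | exact Or.inl ⟨rfl, q, rfl⟩ | exact Or.inr (Or.inl ⟨rfl, q, rfl⟩) | exact Or.inr (Or.inr (Or.inl ⟨rfl, q, rfl⟩)) | exact Or.inr (Or.inr (Or.inr (Or.inl ⟨rfl, q, rfl⟩))) | exact Or.inr (Or.inr (Or.inr (Or.inr (Or.inl ⟨rfl, q, rfl⟩)))) | exact Or.inr (Or.inr (Or.inr (Or.inr (Or.inr (Or.inl ⟨rfl, q, rfl⟩))))) | exact Or.inr (Or.inr (Or.inr (Or.inr (Or.inr (Or.inr (Or.inl ⟨rfl, q, rfl⟩)))))) | exact Or.inr (Or.inr (Or.inr (Or.inr (Or.inr (Or.inr (Or.inr (Or.inl ⟨rfl, q, rfl⟩))))))) | exact Or.inr (Or.inr (Or.inr (Or.inr (Or.inr (Or.inr (Or.inr (Or.inr (Or.inl ⟨rfl, q, rfl⟩)))))))) | exact Or.inr (Or.inr (Or.inr (Or.inr (Or.inr (Or.inr (Or.inr (Or.inr (Or.inr (Or.inl ⟨rfl, q, rfl⟩))))))))) | exact Or.inr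 (Or.inr (Or.inr (Or.inr (Or.inr (Or.inr (Or.inr (Or.inr (Or.inr (Or.inr (Or.inl ⟨rfl, q, rfl⟩)))))))))) | exact Or.inr (Or.inr (Or.inr (Or.inr (Or.inr (Or.inr (Or.inr (Or.inr (Or.inr (Or.inr (Or.inr (⟨rfl, q, rfl⟩)))))))))))
    case sz q =>
      have hx' : x ∈ [1, 4] := hx
      have hy' : y ∈ [1, 4] := hy
      have hxd' : 8 * 4 ∣ 18 * x := hxd
      have hyd' : 12 * 4 ∣ 18 * y := hyd
      have h4 : 2 * 2 ≤ 4 * 4 := h2'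
      simp only [List.mem_cons, List.not_mem_nil, or_false] at hx' hy'
      clear hx hy hxd hyd h2' hch hY
      first | omega | exact Or.inl ⟨rfl, q, rfl⟩ | exact Or.inr (Or.inl ⟨rfl, q, rfl⟩) | exact Or.inr (Or.inr (Or.inl ⟨rfl, q, rfl⟩)) | exact Or.inr (Or.inr (Or.inr (Or.inl ⟨rfl, q, rfl⟩))) | exact Or.inr (Or.inr (Or.inr (Or.inr (Or.inl ⟨rfl, q, rfl⟩)))) | exact Or.inr (Or.inr (Or.inr (Or.inr (Or.inr (Or.inl ⟨rfl, q, rfl⟩))))) | exact Or.inr (Or.inr (Or.inr (Or.inr (Or.inr (Or.inr (Or.inl ⟨rfl, q, rfl⟩)))))) | exact Or.inr (Or.inr (Or.inr (Or.inr (Or.inr (Or.inr (Or.inr (Or.inl ⟨rfl, q, rfl⟩))))))) | exact Or.inr (Or.inr (Or.inr (Or.inr (Or.inr (Or.inr (Or.inr (Or.inr (Or.inl ⟨rfl, q, rfl⟩)))))))) | exact Or.inr (Or.inr (Or.inr (Or.inr (Or.inr (Or.inr (Or.inr (Or.inr (Or.inr (Or.inl ⟨rfl, q, rfl⟩))))))))) | exact Or.inr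 (Or.inr (Or.inr (Or.inr (Or.inr (Or.inr (Or.inr (Or.inr (Or.inr (Or.inr (Or.inl ⟨rfl, q, rfl⟩)))))))))) | exact Or.inr (Or.inr (Or.inr (Or.inr (Or.inr (Or.inr (Or.inr (Or.inr (Or.inr (Or.inr (Or.inr (⟨rfl, q, rfl⟩)))))))))))
    case ree q =>
      have hx' : x ∈ [1, 6] := hx
      have hy' : y ∈ [1, 6] := hy
      have hxd' : 8 * 6 ∣ 18 * x := hxd
      have hyd' : 12 * 6 ∣ 18 * y := hyd
      have h4 : 2 * 3 ≤ 4 * 6 := h2'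
      simp only [List.mem_cons, List.not_mem_nil, or_false] at hx' hy'
      clear hx hy hxd hyd h2' hch hY
      first | omega | exact Or.inl ⟨rfl, q, rfl⟩ | exact Or.inr (Or.inl ⟨rfl, q, rfl⟩) | exact Or.inr (Or.inr (Or.inl ⟨rfl, q, rfl⟩)) | exact Or.inr (Or.inr (Or.inr (Or.inl ⟨rfl, q, rfl⟩))) | exact Or.inr (Or.inr (Or.inr (Or.inr (Or.inl ⟨rfl, q, rfl⟩)))) | exact Or.inr (Or.inr (Or.inr (Or.inr (Or.inr (Or.inl ⟨rfl, q, rfl⟩))))) | exact Or.inr (Or.inr (Or.inr (Or.inr (Or.inr (Or.inr (Or.inl ⟨rfl, q, rfl⟩)))))) | exact Or.inr (Or.inr (Or.inr (Or.inr (Or.inr (Or.inr (Or.inr (Or.inl ⟨rfl, q, rfl⟩))))))) | exact Or.inr (Or.inr (Or.inr (Or.inr (Or.inr (Or.inr (Or.inr (Or.inr (Or.inl ⟨rfl, q, rfl⟩)))))))) | exact Or.inr (Or.inr (Or.inr (Or.inr (Or.inr (Or.inr (Or.inr (Or.inr (Or.inr (Or.inl ⟨rfl, q, rfl⟩))))))))) | exact Or.inr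 (Or.inr (Or.inr (Or.inr (Or.inr (Or.inr (Or.inr (Or.inr (Or.inr (Or.inr (Or.inl ⟨rfl, q, rfl⟩)))))))))) | exact Or.inr (Or.inr (Or.inr (Or.inr (Or.inr (Or.inr (Or.inr (Or.inr (Or.inr (Or.inr (Or.inr (⟨rfl, q, rfl⟩)))))))))))
    case tf4 q =>
      have hx' : x ∈ [1, 6, 4, 12] := hx
      have hy' : y ∈ [1, 6, 4, 12] := hy
      have hxd' : 8 * 12 ∣ 18 * x := hxd
      have hyd' : 12 * 12 ∣ 18 * y := hyd
      have h4 : 2 * 12 ≤ 4 * 12 := h2'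
      simp only [List.mem_cons, List.not_mem_nil, or_false] at hx' hy'
      clear hx hy hxd hyd h2' hch hY
      first | omega | exact Or.inl ⟨rfl, q, rfl⟩ | exact Or.inr (Or.inl ⟨rfl, q, rfl⟩) | exact Or.inr (Or.inr (Or.inl ⟨rfl, q, rfl⟩)) | exact Or.inr (Or.inr (Or.inr (Or.inl ⟨rfl, q, rfl⟩))) | exact Or.inr (Or.inr (Or.inr (Or.inr (Or.inl ⟨rfl, q, rfl⟩)))) | exact Or.inr (Or.inr (Or.inr (Or.inr (Or.inr (Or.inl ⟨rfl, q, rfl⟩))))) | exact Or.inr (Or.inr (Or.inr (Or.inr (Or.inr (Or.inr (Or.inl ⟨rfl, q, rfl⟩)))))) | exact Or.inr (Or.inr (Or.inr (Or.inr (Or.inr (Or.inr (Or.inr (Or.inl ⟨rfl, q, rfl⟩))))))) | exact Or.inr (Or.inr (Or.inr (Or.inr (Or.inr (Or.inr (Or.inr (Or.inr (Or.inl ⟨rfl, q, rfl⟩)))))))) | exact Or.inr (Or.inr (Or.inr (Or.inr (Or.inr (Or.inr (Or.inr (Or.inr (Or.inr (Or.inl ⟨rfl, q, rfl⟩))))))))) | exact Or.inr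 (Or.inr (Or.inr (Or.inr (Or.inr (Or.inr (Or.inr (Or.inr (Or.inr (Or.inr (Or.inl ⟨rfl, q, rfl⟩)))))))))) | exact Or.inr (Or.inr (Or.inr (Or.inr (Or.inr (Or.inr (Or.inr (Or.inr (Or.inr (Or.inr (Or.inr (⟨rfl, q, rfl⟩)))))))))))
    all_goals exact absurd hch not_false
  · have h2' : 2 * ag g ≤ 6 * Mg g := by omega
    clear h2
    cases g
    case psl m q =>
      obtain ⟨hm, -, -⟩ := hg
      have hb := bd_psl (ρ := 6) (by omega) h2'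
      have hx' : 1 ≤ x ∧ x ≤ m := hx
      have hy' : 1 ≤ y ∧ y ≤ m := hy
      have hxd' : 8 * m ∣ 12 * x := hxd
      have hyd' : 12 * m ∣ 12 * y := hyd
      clear hx hy hxd hyd h2' hch hY
      interval_cases m <;> first | omega | exact Or.inl ⟨rfl, q, rfl⟩ | exact Or.inr (Or.inl ⟨rfl, q, rfl⟩) | exact Or.inr (Or.inr (Or.inl ⟨rfl, q, rfl⟩)) | exact Or.inr (Or.inr (Or.inr (Or.inl ⟨rfl, q, rfl⟩))) | exact Or.inr (Or.inr (Or.inr (Or.inr (Or.inl ⟨rfl, q, rfl⟩)))) | exact Or.inr (Or.inr (Or.inr (Or.inr (Or.inr (Or.inl ⟨rfl, q, rfl⟩))))) | exact Or.inr (Or.inr (Or.inr (Or.inr (Or.inr (Or.inr (Or.inl ⟨rfl, q, rfl⟩)))))) | exact Or.inr (Or.inr (Or.inr (Or.inr (Or.inr (Or.inr (Or.inr (Or.inl ⟨rfl, q, rfl⟩))))))) | exact Or.inr (Or.inr (Or.inr (Or.inr (Or.inr (Or.inr (Or.inr (Or.inr (Or.inl ⟨rfl, q, rfl⟩)))))))) | exact Or.inr (Or.inr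 (Or.inr (Or.inr (Or.inr (Or.inr (Or.inr (Or.inr (Or.inr (Or.inl ⟨rfl, q, rfl⟩))))))))) | exact Or.inr (Or.inr (Or.inr (Or.inr (Or.inr (Or.inr (Or.inr (Or.inr (Or.inr (Or.inr (Or.inl ⟨rfl, q, rfl⟩)))))))))) | exact Or.inr (Or.inr (Or.inr (Or.inr (Or.inr (Or.inr (Or.inr (Or.inr (Or.inr (Or.inr (Or.inr (⟨rfl, q, rfl⟩)))))))))))
    case psp m q =>
      obtain ⟨hm, -, -⟩ := hg
      have hb := bd_psp (ρ := 6) (by omega) h2'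
      have hx' : 1 ≤ x ∧ x ≤ 2 * m ∧ 2 ∣ x := hx
      have hy' : 1 ≤ y ∧ y ≤ 2 * m ∧ 2 ∣ y := hy
      have hxd' : 8 * (2 * m) ∣ 12 * x := hxd
      have hyd' : 12 * (2 * m) ∣ 12 * y := hyd
      clear hx hy hxd hyd h2' hch hY
      interval_cases m <;> first | omega | exact Or.inl ⟨rfl, q, rfl⟩ | exact Or.inr (Or.inl ⟨rfl, q, rfl⟩) | exact Or.inr (Or.inr (Or.inl ⟨rfl, q, rfl⟩)) | exact Or.inr (Or.inr (Or.inr (Or.inl ⟨rfl, q, rfl⟩))) | exact Or.inr (Or.inr (Or.inr (Or.inr (Or.inl ⟨rfl, q, rfl⟩)))) | exact Or.inr (Or.inr (Or.inr (Or.inr (Or.inr (Or.inl ⟨rfl, q, rfl⟩))))) | exact Or.inr (Or.inr (Or.inr (Or.inr (Or.inr (Or.inr (Or.inl ⟨rfl, q, rfl⟩)))))) | exact Or.inr (Or.inr (Or.inr (Or.inr (Or.inr (Or.inr (Or.inr (Or.inl ⟨rfl, q, rfl⟩))))))) | exact Or.inr (Or.inr (Or.inr (Or.inr (Or.inr (Or.inr (Or.inr (Or.inr (Or.inl ⟨rfl,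 q, rfl⟩)))))))) | exact Or.inr (Or.inr (Or.inr (Or.inr (Or.inr (Or.inr (Or.inr (Or.inr (Or.inr (Or.inl ⟨rfl, q, rfl⟩))))))))) | exact Or.inr (Or.inr (Or.inr (Or.inr (Or.inr (Or.inr (Or.inr (Or.inr (Or.inr (Or.inr (Or.inl ⟨rfl, q, rfl⟩)))))))))) | exact Or.inr (Or.inr (Or.inr (Or.inr (Or.inr (Or.inr (Or.inr (Or.inr (Or.inr (Or.inr (Or.inr (⟨rfl, q, rfl⟩)))))))))))
    case oodd m q =>
      obtain ⟨hm, -, -⟩ := hg
      have hb := bd_psp (ρ := 6) (by omega) h2'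
      have hx' : 1 ≤ x ∧ x ≤ 2 * m ∧ 2 ∣ x := hx
      have hy' : 1 ≤ y ∧ y ≤ 2 * m ∧ 2 ∣ y := hy
      have hxd' : 8 * (2 * m) ∣ 12 * x := hxd
      have hyd' : 12 * (2 * m) ∣ 12 * y := hyd
      clear hx hy hxd hyd h2' hch hY
      interval_cases m <;> first | omega | exact Or.inl ⟨rfl, q, rfl⟩ | exact Or.inr (Or.inl ⟨rfl, q, rfl⟩) | exact Or.inr (Or.inr (Or.inl ⟨rfl, q, rfl⟩)) | exact Or.inr (Or.inr (Or.inr (Or.inl ⟨rfl, q, rfl⟩))) | exact Or.inr (Or.inr (Or.inr (Or.inr (Or.inl ⟨rfl, q, rfl⟩)))) | exact Or.inr (Or.inr (Or.inr (Or.inr (Or.inr (Or.inl ⟨rfl, q, rfl⟩))))) | exact Or.inr (Or.inr (Or.inr (Or.inr (Or.inr (Or.inr (Or.inl ⟨rfl, q, rfl⟩)))))) | exact Or.inr (Or.inr (Or.inr (Or.inr (Or.inr (Or.inr (Or.inr (Or.inl ⟨rfl, q, rfl⟩))))))) | exact Or.inr (Or.inr (Or.inr (Or.inr (Or.inr (Or.inr (Or.inr (Or.inr (Or.inl ⟨rfl,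 q, rfl⟩)))))))) | exact Or.inr (Or.inr (Or.inr (Or.inr (Or.inr (Or.inr (Or.inr (Or.inr (Or.inr (Or.inl ⟨rfl, q, rfl⟩))))))))) | exact Or.inr (Or.inr (Or.inr (Or.inr (Or.inr (Or.inr (Or.inr (Or.inr (Or.inr (Or.inr (Or.inl ⟨rfl, q, rfl⟩)))))))))) | exact Or.inr (Or.inr (Or.inr (Or.inr (Or.inr (Or.inr (Or.inr (Or.inr (Or.inr (Or.inr (Or.inr (⟨rfl, q, rfl⟩)))))))))))
    case psu m q =>
      obtain ⟨hm, -, -⟩ := hg
      have hb := bd_psu (ρ := 6) hm h2'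
      have hx' : (1 ≤ x ∧ x ≤ m ∧ 2 ∣ x) ∨ ∃ j, x = 2 * j ∧ j ≤ m ∧ j % 2 = 1 := hx
      have hy' : (1 ≤ y ∧ y ≤ m ∧ 2 ∣ y) ∨ ∃ j, y = 2 * j ∧ j ≤ m ∧ j % 2 = 1 := hy
      obtain ⟨k, hk⟩ : ∃ k, k = (if m % 2 = 0 then m - 1 else m) := ⟨_, rfl⟩
      have hk' : (m % 2 = 0 ∧ k = m - 1) ∨ (m % 2 = 1 ∧ k = m) := by
        rw [hk]
        split_ifs <;> omega
      have hM : Mg (.psu m q) = 2 * k := by rw [hk]; rfl
      have hxd' : 8 * (2 * k) ∣ 12 * x := hM ▸ hxd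
      have hyd' : 12 * (2 * k) ∣ 12 * y := hM ▸ hyd
      clear hx hy hxd hyd h2' hch hY hM hk
      rcases hk' with ⟨hk1, hk2⟩ | ⟨hk1, hk2⟩ <;> rcases hx' with hx' | ⟨j, rfl, hx'⟩ <;>
        rcases hy' with hy' | ⟨l, rfl, hy'⟩ <;> interval_cases m <;> subst hk2 <;> first | omega | exact Or.inl ⟨rfl, q, rfl⟩ | exact Or.inr (Or.inl ⟨rfl, q, rfl⟩) | exact Or.inr (Or.inr (Or.inl ⟨rfl, q, rfl⟩)) | exact Or.inr (Or.inr (Or.inr (Or.inl ⟨rfl, q, rfl⟩))) | exact Or.inr (Or.inr (Or.inr (Or.inr (Or.inl ⟨rfl, q, rfl⟩)))) | exact Or.inr (Or.inr (Or.inr (Or.inr (Or.inr (Or.inl ⟨rfl, q, rfl⟩))))) | exact Or.inr (Or.inr (Or.inr (Or.inr (Or.inr (Or.inr (Or.inl ⟨rfl, q, rfl⟩)))))) | exact Or.inr (Or.inr (Or.inr (Or.inr (Or.inr (Or.inr (Or.inr (Or.inl ⟨rfl, q, rfl⟩))))))) | exact Or.inr (Or.inr (Or.inr (Or.inr (Or.inr (Or.inr (Or.inr (Or.inr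 (Or.inl ⟨rfl, q, rfl⟩)))))))) | exact Or.inr (Or.inr (Or.inr (Or.inr (Or.inr (Or.inr (Or.inr (Or.inr (Or.inr (Or.inl ⟨rfl, q, rfl⟩))))))))) | exact Or.inr (Or.inr (Or.inr (Or.inr (Or.inr (Or.inr (Or.inr (Or.inr (Or.inr (Or.inr (Or.inl ⟨rfl, q, rfl⟩)))))))))) | exact Or.inr (Or.inr (Or.inr (Or.inr (Or.inr (Or.inr (Or.inr (Or.inr (Or.inr (Or.inr (Or.inr (⟨rfl, q, rfl⟩)))))))))))
    case oplus m q =>
      obtain ⟨hm, -⟩ := hg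
      have hb := bd_oplus (ρ := 6) (by omega) h2'
      have hx' : 1 ≤ x ∧ x ≤ 2 * (m - 1) ∧ (2 ∣ x ∨ x = m) := hx
      have hy' : 1 ≤ y ∧ y ≤ 2 * (m - 1) ∧ (2 ∣ y ∨ y = m) := hy
      have hxd' : 8 * (2 * (m - 1)) ∣ 12 * x := hxd
      have hyd' : 12 * (2 * (m - 1)) ∣ 12 * y := hyd
      clear hx hy hxd hyd h2' hch hY
      interval_cases m <;> first | omega | exact Or.inl ⟨rfl, q, rfl⟩ | exact Or.inr (Or.inl ⟨rfl, q, rfl⟩) | exact Or.inr (Or.inr (Or.inl ⟨rfl, q, rfl⟩)) | exact Or.inr (Or.inr (Or.inr (Or.inl ⟨rfl, q, rfl⟩))) | exact Or.inr (Or.inr (Or.inr (Or.inr (Or.inl ⟨rfl, q, rfl⟩)))) | exact Or.inr (Or.inr (Or.inr (Or.inr (Or.inr (Or.inl ⟨rfl, q, rfl⟩))))) | exact Or.inr (Or.inr (Or.inr (Or.inr (Or.inr (Or.inr (Or.inl ⟨rfl, q, rfl⟩)))))) | exact Or.inr (Or.inr (Or.inr (Or.inr (Or.inr (Or.inr (Or.inr (Or.inl ⟨rfl, q, rfl⟩)))))))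 | exact Or.inr (Or.inr (Or.inr (Or.inr (Or.inr (Or.inr (Or.inr (Or.inr (Or.inl ⟨rfl, q, rfl⟩)))))))) | exact Or.inr (Or.inr (Or.inr (Or.inr (Or.inr (Or.inr (Or.inr (Or.inr (Or.inr (Or.inl ⟨rfl, q, rfl⟩))))))))) | exact Or.inr (Or.inr (Or.inr (Or.inr (Or.inr (Or.inr (Or.inr (Or.inr (Or.inr (Or.inr (Or.inl ⟨rfl, q, rfl⟩)))))))))) | exact Or.inr (Or.inr (Or.inr (Or.inr (Or.inr (Or.inr (Or.inr (Or.inr (Or.inr (Or.inr (Or.inr (⟨rfl, q, rfl⟩)))))))))))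
    case ominus m q =>
      obtain ⟨hm, -⟩ := hg
      have hb := bd_ominus (ρ := 6) (by omega) h2'
      have hx' : 1 ≤ x ∧ x ≤ 2 * m ∧ 2 ∣ x := hx
      have hy' : 1 ≤ y ∧ y ≤ 2 * m ∧ 2 ∣ y := hy
      have hxd' : 8 * (2 * m) ∣ 12 * x := hxd
      have hyd' : 12 * (2 * m) ∣ 12 * y := hyd
      clear hx hy hxd hyd h2' hch hY
      interval_cases m <;> first | omega | exact Or.inl ⟨rfl, q, rfl⟩ | exact Or.inr (Or.inl ⟨rfl, q, rfl⟩) | exact Or.inr (Or.inr (Or.inl ⟨rfl, q, rfl⟩)) | exact Or.inr (Or.inr (Or.inr (Or.inl ⟨rfl, q, rfl⟩))) | exact Or.inr (Or.inr (Or.inr (Or.inr (Or.inl ⟨rfl, q, rfl⟩)))) | exact Or.inr (Or.inr (Or.inr (Or.inr (Or.inr (Or.inl ⟨rfl, q, rfl⟩))))) | exact Or.inr (Or.inr (Or.inr (Or.inr (Or.inr (Or.inr (Or.inl ⟨rfl, q, rfl⟩)))))) | exact Or.inr (Or.inr (Or.inr (Or.inr (Or.inr (Or.inr (Or.inr (Or.inl ⟨rfl,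 q, rfl⟩))))))) | exact Or.inr (Or.inr (Or.inr (Or.inr (Or.inr (Or.inr (Or.inr (Or.inr (Or.inl ⟨rfl, q, rfl⟩)))))))) | exact Or.inr (Or.inr (Or.inr (Or.inr (Or.inr (Or.inr (Or.inr (Or.inr (Or.inr (Or.inl ⟨rfl, q, rfl⟩))))))))) | exact Or.inr (Or.inr (Or.inr (Or.inr (Or.inr (Or.inr (Or.inr (Or.inr (Or.inr (Or.inr (Or.inl ⟨rfl, q, rfl⟩)))))))))) | exact Or.inr (Or.inr (Or.inr (Or.inr (Or.inr (Or.inr (Or.inr (Or.inr (Or.inr (Or.inr (Or.inr (⟨rfl, q, rfl⟩)))))))))))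
    case g2 q =>
      have hx' : x ∈ [2, 6] := hx
      have hy' : y ∈ [2, 6] := hy
      have hxd' : 8 * 6 ∣ 12 * x := hxd
      have hyd' : 12 * 6 ∣ 12 * y := hyd
      have h4 : 2 * 6 ≤ 6 * 6 := h2'
      simp only [List.mem_cons, List.not_mem_nil, or_false] at hx' hy'
      clear hx hy hxd hyd h2' hch hY
      first | omega | exact Or.inl ⟨rfl, q, rfl⟩ | exact Or.inr (Or.inl ⟨rfl, q, rfl⟩) | exact Or.inr (Or.inr (Or.inl ⟨rfl, q, rfl⟩)) | exact Or.inr (Or.inr (Or.inr (Or.inl ⟨rfl, q, rfl⟩))) | exact Or.inr (Or.inr (Or.inr (Or.inr (Or.inl ⟨rfl, q, rfl⟩)))) | exact Or.inr (Or.inr (Or.inr (Or.inr (Or.inr (Or.inl ⟨rfl, q, rfl⟩))))) | exact Or.inr (Or.inr (Or.inr (Or.inr (Or.inr (Or.inr (Or.inl ⟨rfl, q, rfl⟩)))))) | exact Or.inr (Or.inr (Or.inr (Or.inr (Or.inr (Or.inr (Or.inr (Or.inl ⟨rfl, q, rfl⟩))))))) | exact Or.inr (Or.inr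 (Or.inr (Or.inr (Or.inr (Or.inr (Or.inr (Or.inr (Or.inl ⟨rfl, q, rfl⟩)))))))) | exact Or.inr (Or.inr (Or.inr (Or.inr (Or.inr (Or.inr (Or.inr (Or.inr (Or.inr (Or.inl ⟨rfl, q, rfl⟩))))))))) | exact Or.inr (Or.inr (Or.inr (Or.inr (Or.inr (Or.inr (Or.inr (Or.inr (Or.inr (Or.inr (Or.inl ⟨rfl, q, rfl⟩)))))))))) | exact Or.inr (Or.inr (Or.inr (Or.inr (Or.inr (Or.inr (Or.inr (Or.inr (Or.inr (Or.inr (Or.inr (⟨rfl, q, rfl⟩)))))))))))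
    case f4 q =>
      have hx' : x ∈ [2, 6, 8, 12] := hx
      have hy' : y ∈ [2, 6, 8, 12] := hy
      have hxd' : 8 * 12 ∣ 12 * x := hxd
      have hyd' : 12 * 12 ∣ 12 * y := hyd
      have h4 : 2 * 24 ≤ 6 * 12 := h2'
      simp only [List.mem_cons, List.not_mem_nil, or_false] at hx' hy'
      clear hx hy hxd hyd h2' hch hY
      first | omega | exact Or.inl ⟨rfl, q, rfl⟩ | exact Or.inr (Or.inl ⟨rfl, q, rfl⟩) | exact Or.inr (Or.inr (Or.inl ⟨rfl, q, rfl⟩)) | exact Or.inr (Or.inr (Or.inr (Or.inl ⟨rfl, q, rfl⟩))) | exact Or.inr (Or.inr (Or.inr (Or.inr (Or.inl ⟨rfl, q, rfl⟩)))) | exact Or.inr (Or.inr (Or.inr (Or.inr (Or.inr (Or.inl ⟨rfl, q, rfl⟩))))) | exact Or.inr (Or.inr (Or.inr (Or.inr (Or.inr (Or.inr (Or.inl ⟨rfl, q, rfl⟩)))))) | exact Or.inr (Or.inr (Or.inr (Or.inr (Or.inr (Or.inr (Or.inr (Or.inl ⟨rfl, q, rfl⟩))))))) | exact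 Or.inr (Or.inr (Or.inr (Or.inr (Or.inr (Or.inr (Or.inr (Or.inr (Or.inl ⟨rfl, q, rfl⟩)))))))) | exact Or.inr (Or.inr (Or.inr (Or.inr (Or.inr (Or.inr (Or.inr (Or.inr (Or.inr (Or.inl ⟨rfl, q, rfl⟩))))))))) | exact Or.inr (Or.inr (Or.inr (Or.inr (Or.inr (Or.inr (Or.inr (Or.inr (Or.inr (Or.inr (Or.inl ⟨rfl, q, rfl⟩)))))))))) | exact Or.inr (Or.inr (Or.inr (Or.inr (Or.inr (Or.inr (Or.inr (Or.inr (Or.inr (Or.inr (Or.inr (⟨rfl, q, rfl⟩)))))))))))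
    case e6 q =>
      have hx' : x ∈ [2, 5, 6, 8, 9, 12] := hx
      have hy' : y ∈ [2, 5, 6, 8, 9, 12] := hy
      have hxd' : 8 * 12 ∣ 12 * x := hxd
      have hyd' : 12 * 12 ∣ 12 * y := hyd
      have h4 : 2 * 36 ≤ 6 * 12 := h2'
      simp only [List.mem_cons, List.not_mem_nil, or_false] at hx' hy'
      clear hx hy hxd hyd h2' hch hY
      first | omega | exact Or.inl ⟨rfl, q, rfl⟩ | exact Or.inr (Or.inl ⟨rfl, q, rfl⟩) | exact Or.inr (Or.inr (Or.inl ⟨rfl, q, rfl⟩)) | exact Or.inr (Or.inr (Or.inr (Or.inl ⟨rfl, q, rfl⟩))) | exact Or.inr (Or.inr (Or.inr (Or.inr (Or.inl ⟨rfl, q, rfl⟩)))) | exact Or.inr (Or.inr (Or.inr (Or.inr (Or.inr (Or.inl ⟨rfl, q, rfl⟩))))) | exact Or.inr (Or.inr (Or.inr (Or.inr (Or.inr (Or.inr (Or.inl ⟨rfl, q, rfl⟩)))))) | exact Or.inr (Or.inr (Or.inr (Or.inr (Or.inr (Or.inr (Or.inr (Or.inl ⟨rfl, q, rfl⟩)))))))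 | exact Or.inr (Or.inr (Or.inr (Or.inr (Or.inr (Or.inr (Or.inr (Or.inr (Or.inl ⟨rfl, q, rfl⟩)))))))) | exact Or.inr (Or.inr (Or.inr (Or.inr (Or.inr (Or.inr (Or.inr (Or.inr (Or.inr (Or.inl ⟨rfl, q, rfl⟩))))))))) | exact Or.inr (Or.inr (Or.inr (Or.inr (Or.inr (Or.inr (Or.inr (Or.inr (Or.inr (Or.inr (Or.inl ⟨rfl, q, rfl⟩)))))))))) | exact Or.inr (Or.inr (Or.inr (Or.inr (Or.inr (Or.inr (Or.inr (Or.inr (Or.inr (Or.inr (Or.inr (⟨rfl, q, rfl⟩)))))))))))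
    case e7 q =>
      have hx' : x ∈ [2, 6, 8, 10, 12, 14, 18] := hx
      have hy' : y ∈ [2, 6, 8, 10, 12, 14, 18] := hy
      have hxd' : 8 * 18 ∣ 12 * x := hxd
      have hyd' : 12 * 18 ∣ 12 * y := hyd
      have h4 : 2 * 63 ≤ 6 * 18 := h2'
      simp only [List.mem_cons, List.not_mem_nil, or_false] at hx' hy'
      clear hx hy hxd hyd h2' hch hY
      first | omega | exact Or.inl ⟨rfl, q, rfl⟩ | exact Or.inr (Or.inl ⟨rfl, q, rfl⟩) | exact Or.inr (Or.inr (Or.inl ⟨rfl, q, rfl⟩)) | exact Or.inr (Or.inr (Or.inr (Or.inl ⟨rfl, q, rfl⟩))) | exact Or.inr (Or.inr (Or.inr (Or.inr (Or.inl ⟨rfl, q, rfl⟩)))) | exact Or.inr (Or.inr (Or.inr (Or.inr (Or.inr (Or.inl ⟨rfl, q, rfl⟩))))) | exact Or.inr (Or.inr (Or.inr (Or.inr (Or.inr (Or.inr (Or.inl ⟨rfl, q, rfl⟩)))))) | exact Or.inr (Or.inr (Or.inr (Or.inr (Or.inr (Or.inr (Or.inr (Or.inl ⟨rfl,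 q, rfl⟩))))))) | exact Or.inr (Or.inr (Or.inr (Or.inr (Or.inr (Or.inr (Or.inr (Or.inr (Or.inl ⟨rfl, q, rfl⟩)))))))) | exact Or.inr (Or.inr (Or.inr (Or.inr (Or.inr (Or.inr (Or.inr (Or.inr (Or.inr (Or.inl ⟨rfl, q, rfl⟩))))))))) | exact Or.inr (Or.inr (Or.inr (Or.inr (Or.inr (Or.inr (Or.inr (Or.inr (Or.inr (Or.inr (Or.inl ⟨rfl, q, rfl⟩)))))))))) | exact Or.inr (Or.inr (Or.inr (Or.inr (Or.inr (Or.inr (Or.inr (Or.inr (Or.inr (Or.inr (Or.inr (⟨rfl, q, rfl⟩)))))))))))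
    case e8 q =>
      have hx' : x ∈ [2, 8, 12, 14, 18, 20, 24, 30] := hx
      have hy' : y ∈ [2, 8, 12, 14, 18, 20, 24, 30] := hy
      have hxd' : 8 * 30 ∣ 12 * x := hxd
      have hyd' : 12 * 30 ∣ 12 * y := hyd
      have h4 : 2 * 120 ≤ 6 * 30 := h2'
      simp only [List.mem_cons, List.not_mem_nil, or_false] at hx' hy'
      clear hx hy hxd hyd h2' hch hY
      first | omega | exact Or.inl ⟨rfl, q, rfl⟩ | exact Or.inr (Or.inl ⟨rfl, q, rfl⟩) | exact Or.inr (Or.inr (Or.inl ⟨rfl, q, rfl⟩)) | exact Or.inr (Or.inr (Or.inr (Or.inl ⟨rfl, q, rfl⟩))) | exact Or.inr (Or.inr (Or.inr (Or.inr (Or.inl ⟨rfl, q, rfl⟩)))) | exact Or.inr (Or.inr (Or.inr (Or.inr (Or.inr (Or.inl ⟨rfl, q, rfl⟩))))) | exact Or.inr (Or.inr (Or.inr (Or.inr (Or.inr (Or.inr (Or.inl ⟨rfl, q, rfl⟩)))))) | exact Or.inr (Or.inr (Or.inr (Or.inr (Or.inr (Or.inr (Or.inr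 (Or.inl ⟨rfl, q, rfl⟩))))))) | exact Or.inr (Or.inr (Or.inr (Or.inr (Or.inr (Or.inr (Or.inr (Or.inr (Or.inl ⟨rfl, q, rfl⟩)))))))) | exact Or.inr (Or.inr (Or.inr (Or.inr (Or.inr (Or.inr (Or.inr (Or.inr (Or.inr (Or.inl ⟨rfl, q, rfl⟩))))))))) | exact Or.inr (Or.inr (Or.inr (Or.inr (Or.inr (Or.inr (Or.inr (Or.inr (Or.inr (Or.inr (Or.inl ⟨rfl, q, rfl⟩)))))))))) | exact Or.inr (Or.inr (Or.inr (Or.inr (Or.inr (Or.inr (Or.inr (Or.inr (Or.inr (Or.inr (Or.inr (⟨rfl, q, rfl⟩)))))))))))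
    case te6 q =>
      have hx' : x ∈ [2, 10, 6, 8, 18, 12] := hx
      have hy' : y ∈ [2, 10, 6, 8, 18, 12] := hy
      have hxd' : 8 * 18 ∣ 12 * x := hxd
      have hyd' : 12 * 18 ∣ 12 * y := hyd
      have h4 : 2 * 36 ≤ 6 * 18 := h2'
      obtain ⟨j, hj, hjd⟩ := hY 8 (by norm_num) (show 8 ∈ [2, 3, 4, 6, 8, 10, 12, 18] by decide)
      have hjd' : 12 * 8 ∣ 18 * j := hjd
      simp only [List.mem_cons, List.not_mem_nil, or_false] at hj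
      simp only [List.mem_cons, List.not_mem_nil, or_false] at hx' hy'
      clear hx hy hxd hyd h2' hch hY
      first | omega | exact Or.inl ⟨rfl, q, rfl⟩ | exact Or.inr (Or.inl ⟨rfl, q, rfl⟩) | exact Or.inr (Or.inr (Or.inl ⟨rfl, q, rfl⟩)) | exact Or.inr (Or.inr (Or.inr (Or.inl ⟨rfl, q, rfl⟩))) | exact Or.inr (Or.inr (Or.inr (Or.inr (Or.inl ⟨rfl, q, rfl⟩)))) | exact Or.inr (Or.inr (Or.inr (Or.inr (Or.inr (Or.inl ⟨rfl, q, rfl⟩))))) | exact Or.inr (Or.inr (Or.inr (Or.inr (Or.inr (Or.inr (Or.inl ⟨rfl, q, rfl⟩)))))) | exact Or.inr (Or.inr (Or.inr (Or.inr (Or.inr (Or.inr (Or.inr (Or.inl ⟨rfl, q, rfl⟩))))))) | exact Or.inr (Or.inr (Or.inr (Or.inr (Or.inr (Or.inr (Or.inr (Or.inr (Or.inl ⟨rfl, q, rfl⟩)))))))) | exact Or.inr (Or.inr (Or.inr (Or.inr (Or.inr (Or.inr (Or.inr (Or.inr (Or.inr (Or.inl ⟨rfl, q, rfl⟩))))))))) | exact Or.inr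 (Or.inr (Or.inr (Or.inr (Or.inr (Or.inr (Or.inr (Or.inr (Or.inr (Or.inr (Or.inl ⟨rfl, q, rfl⟩)))))))))) | exact Or.inr (Or.inr (Or.inr (Or.inr (Or.inr (Or.inr (Or.inr (Or.inr (Or.inr (Or.inr (Or.inr (⟨rfl, q, rfl⟩)))))))))))
    case td4 q =>
      have hx' : x ∈ [2, 6, 12] := hx
      have hy' : y ∈ [2, 6, 12] := hy
      have hxd' : 8 * 12 ∣ 12 * x := hxd
      have hyd' : 12 * 12 ∣ 12 * y := hyd
      have h4 : 2 * 12 ≤ 6 * 12 := h2'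
      simp only [List.mem_cons, List.not_mem_nil, or_false] at hx' hy'
      clear hx hy hxd hyd h2' hch hY
      first | omega | exact Or.inl ⟨rfl, q, rfl⟩ | exact Or.inr (Or.inl ⟨rfl, q, rfl⟩) | exact Or.inr (Or.inr (Or.inl ⟨rfl, q, rfl⟩)) | exact Or.inr (Or.inr (Or.inr (Or.inl ⟨rfl, q, rfl⟩))) | exact Or.inr (Or.inr (Or.inr (Or.inr (Or.inl ⟨rfl, q, rfl⟩)))) | exact Or.inr (Or.inr (Or.inr (Or.inr (Or.inr (Or.inl ⟨rfl, q, rfl⟩))))) | exact Or.inr (Or.inr (Or.inr (Or.inr (Or.inr (Or.inr (Or.inl ⟨rfl, q, rfl⟩)))))) | exact Or.inr (Or.inr (Or.inr (Or.inr (Or.inr (Or.inr (Or.inr (Or.inl ⟨rfl, q, rfl⟩))))))) | exact Or.inr (Or.inr (Or.inr (Or.inr (Or.inr (Or.inr (Or.inr (Or.inr (Or.inl ⟨rfl, q, rfl⟩)))))))) | exact Or.inr (Or.inr (Or.inr (Or.inr (Or.inr (Or.inr (Or.inr (Or.inr (Or.inr (Or.inl ⟨rfl, q, rfl⟩))))))))) | exact Or.inr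 (Or.inr (Or.inr (Or.inr (Or.inr (Or.inr (Or.inr (Or.inr (Or.inr (Or.inr (Or.inl ⟨rfl, q, rfl⟩)))))))))) | exact Or.inr (Or.inr (Or.inr (Or.inr (Or.inr (Or.inr (Or.inr (Or.inr (Or.inr (Or.inr (Or.inr (⟨rfl, q, rfl⟩)))))))))))
    case sz q =>
      have hx' : x ∈ [1, 4] := hx
      have hy' : y ∈ [1, 4] := hy
      have hxd' : 8 * 4 ∣ 12 * x := hxd
      have hyd' : 12 * 4 ∣ 12 * y := hyd
      have h4 : 2 * 2 ≤ 6 * 4 := h2'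
      simp only [List.mem_cons, List.not_mem_nil, or_false] at hx' hy'
      clear hx hy hxd hyd h2' hch hY
      first | omega | exact Or.inl ⟨rfl, q, rfl⟩ | exact Or.inr (Or.inl ⟨rfl, q, rfl⟩) | exact Or.inr (Or.inr (Or.inl ⟨rfl, q, rfl⟩)) | exact Or.inr (Or.inr (Or.inr (Or.inl ⟨rfl, q, rfl⟩))) | exact Or.inr (Or.inr (Or.inr (Or.inr (Or.inl ⟨rfl, q, rfl⟩)))) | exact Or.inr (Or.inr (Or.inr (Or.inr (Or.inr (Or.inl ⟨rfl, q, rfl⟩))))) | exact Or.inr (Or.inr (Or.inr (Or.inr (Or.inr (Or.inr (Or.inl ⟨rfl, q, rfl⟩)))))) | exact Or.inr (Or.inr (Or.inr (Or.inr (Or.inr (Or.inr (Or.inr (Or.inl ⟨rfl, q, rfl⟩))))))) | exact Or.inr (Or.inr (Or.inr (Or.inr (Or.inr (Or.inr (Or.inr (Or.inr (Or.inl ⟨rfl, q, rfl⟩)))))))) | exact Or.inr (Or.inr (Or.inr (Or.inr (Or.inr (Or.inr (Or.inr (Or.inr (Or.inr (Or.inl ⟨rfl, q, rfl⟩))))))))) | exact Or.inr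 (Or.inr (Or.inr (Or.inr (Or.inr (Or.inr (Or.inr (Or.inr (Or.inr (Or.inr (Or.inl ⟨rfl, q, rfl⟩)))))))))) | exact Or.inr (Or.inr (Or.inr (Or.inr (Or.inr (Or.inr (Or.inr (Or.inr (Or.inr (Or.inr (Or.inr (⟨rfl, q, rfl⟩)))))))))))
    case ree q =>
      have hx' : x ∈ [1, 6] := hx
      have hy' : y ∈ [1, 6] := hy
      have hxd' : 8 * 6 ∣ 12 * x := hxd
      have hyd' : 12 * 6 ∣ 12 * y := hyd
      have h4 : 2 * 3 ≤ 6 * 6 := h2'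
      simp only [List.mem_cons, List.not_mem_nil, or_false] at hx' hy'
      clear hx hy hxd hyd h2' hch hY
      first | omega | exact Or.inl ⟨rfl, q, rfl⟩ | exact Or.inr (Or.inl ⟨rfl, q, rfl⟩) | exact Or.inr (Or.inr (Or.inl ⟨rfl, q, rfl⟩)) | exact Or.inr (Or.inr (Or.inr (Or.inl ⟨rfl, q, rfl⟩))) | exact Or.inr (Or.inr (Or.inr (Or.inr (Or.inl ⟨rfl, q, rfl⟩)))) | exact Or.inr (Or.inr (Or.inr (Or.inr (Or.inr (Or.inl ⟨rfl, q, rfl⟩))))) | exact Or.inr (Or.inr (Or.inr (Or.inr (Or.inr (Or.inr (Or.inl ⟨rfl, q, rfl⟩)))))) | exact Or.inr (Or.inr (Or.inr (Or.inr (Or.inr (Or.inr (Or.inr (Or.inl ⟨rfl, q, rfl⟩))))))) | exact Or.inr (Or.inr (Or.inr (Or.inr (Or.inr (Or.inr (Or.inr (Or.inr (Or.inl ⟨rfl, q, rfl⟩)))))))) | exact Or.inr (Or.inr (Or.inr (Or.inr (Or.inr (Or.inr (Or.inr (Or.inr (Or.inr (Or.inl ⟨rfl, q, rfl⟩))))))))) | exact Or.inr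 (Or.inr (Or.inr (Or.inr (Or.inr (Or.inr (Or.inr (Or.inr (Or.inr (Or.inr (Or.inl ⟨rfl, q, rfl⟩)))))))))) | exact Or.inr (Or.inr (Or.inr (Or.inr (Or.inr (Or.inr (Or.inr (Or.inr (Or.inr (Or.inr (Or.inr (⟨rfl, q, rfl⟩)))))))))))
    case tf4 q =>
      have hx' : x ∈ [1, 6, 4, 12] := hx
      have hy' : y ∈ [1, 6, 4, 12] := hy
      have hxd' : 8 * 12 ∣ 12 * x := hxd
      have hyd' : 12 * 12 ∣ 12 * y := hyd
      have h4 : 2 * 12 ≤ 6 * 12 := h2'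
      simp only [List.mem_cons, List.not_mem_nil, or_false] at hx' hy'
      clear hx hy hxd hyd h2' hch hY
      first | omega | exact Or.inl ⟨rfl, q, rfl⟩ | exact Or.inr (Or.inl ⟨rfl, q, rfl⟩) | exact Or.inr (Or.inr (Or.inl ⟨rfl, q, rfl⟩)) | exact Or.inr (Or.inr (Or.inr (Or.inl ⟨rfl, q, rfl⟩))) | exact Or.inr (Or.inr (Or.inr (Or.inr (Or.inl ⟨rfl, q, rfl⟩)))) | exact Or.inr (Or.inr (Or.inr (Or.inr (Or.inr (Or.inl ⟨rfl, q, rfl⟩))))) | exact Or.inr (Or.inr (Or.inr (Or.inr (Or.inr (Or.inr (Or.inl ⟨rfl, q, rfl⟩)))))) | exact Or.inr (Or.inr (Or.inr (Or.inr (Or.inr (Or.inr (Or.inr (Or.inl ⟨rfl, q, rfl⟩))))))) | exact Or.inr (Or.inr (Or.inr (Or.inr (Or.inr (Or.inr (Or.inr (Or.inr (Or.inl ⟨rfl, q, rfl⟩)))))))) | exact Or.inr (Or.inr (Or.inr (Or.inr (Or.inr (Or.inr (Or.inr (Or.inr (Or.inr (Or.inl ⟨rfl, q, rfl⟩))))))))) | exact Or.inr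 (Or.inr (Or.inr (Or.inr (Or.inr (Or.inr (Or.inr (Or.inr (Or.inr (Or.inr (Or.inl ⟨rfl, q, rfl⟩)))))))))) | exact Or.inr (Or.inr (Or.inr (Or.inr (Or.inr (Or.inr (Or.inr (Or.inr (Or.inr (Or.inr (Or.inr (⟨rfl, q, rfl⟩)))))))))))
    all_goals exact absurd hch not_false


/-! ### too many factors divisible by the primes of order `4` -/

section Kill

variable {s y N : ℕ} (hp : p.Prime) (hf : 1 ≤ f) (hs4 : Prim (p ^ f) 4 s) (hy : ¬ s ∣ y) (hy0 : 0 < y)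
  (hd : c ∣ (p ^ f) ^ N * (y * (((p ^ f) ^ 8 - 1) * ((p ^ f) ^ 12 - 1))))

include hp hf hs4 hy hy0 hd

theorem kill4_psp (hc : den (.psp 3 (p ^ (f * 2))) * c = num (.psp 3 (p ^ (f * 2)))) : False := by
  have hq : 2 ≤ p ^ f := hp.two_le.trans (Nat.le_self_pow (by omega) _)
  have b8 := sub_pos' (d := 8) hq (by norm_num)
  have b12 := sub_pos' (d := 12) hq (by norm_num)
  have hc0 : 0 < c := pos_of_dvd (by positivity) hd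
  have hs5 : 5 ≤ s := by
    have := lt_of_prim hs4
    omega
  have hx : s ∣ (p ^ f) ^ 4 - 1 := hs4.dvd dvd_rfl
  have h6 : Nat.gcd 2 (p ^ (f * 2) - 1) * c = (p ^ (f * 2)) ^ (3 ^ 2) * prB (p ^ (f * 2)) 3 := hc
  refine cancel_prime hs4.prime (Z := ((p ^ f) ^ 8 - 1) * ((p ^ f) ^ 12 - 1)) (by positivity) hc0
    (A := (p ^ (f * 2)) ^ (3 ^ 2)) (x := (p ^ f) ^ 4 - 1) (D := Nat.gcd 2 (p ^ (f * 2) - 1)) (B := (p ^ f) ^ N) ?_ hd hx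
    (fun h => ?_) (hs4.not_dvd_pow _) hy
  · rw [h6, prB_three']
  · have := Nat.le_of_dvd (by norm_num) (h.trans (Nat.gcd_dvd_left _ _))
    omega

theorem kill4_oodd (hc : den (.oodd 3 (p ^ (f * 2))) * c = num (.oodd 3 (p ^ (f * 2)))) : False := by
  have hq : 2 ≤ p ^ f := hp.two_le.trans (Nat.le_self_pow (by omega) _)
  have b8 := sub_pos' (d := 8) hq (by norm_num)
  have b12 := sub_pos' (d := 12) hq (by norm_num)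
  have hc0 : 0 < c := pos_of_dvd (by positivity) hd
  have hs5 : 5 ≤ s := by
    have := lt_of_prim hs4
    omega
  have hx : s ∣ (p ^ f) ^ 4 - 1 := hs4.dvd dvd_rfl
  have h6 : 2 * c = (p ^ (f * 2)) ^ (3 ^ 2) * prB (p ^ (f * 2)) 3 := hc
  refine cancel_prime hs4.prime (Z := ((p ^ f) ^ 8 - 1) * ((p ^ f) ^ 12 - 1)) (by positivity) hc0
    (A := (p ^ (f * 2)) ^ (3 ^ 2)) (x := (p ^ f) ^ 4 - 1) (D := 2) (B := (p ^ f) ^ N) ?_ hd hx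
    (fun h => ?_) (hs4.not_dvd_pow _) hy
  · rw [h6, prB_three']
  · have := Nat.le_of_dvd (by norm_num) h
    omega

theorem kill4_oplus (hc : den (.oplus 4 (p ^ (f * 2))) * c = num (.oplus 4 (p ^ (f * 2)))) : False := by
  have hq : 2 ≤ p ^ f := hp.two_le.trans (Nat.le_self_pow (by omega) _)
  have b8 := sub_pos' (d := 8) hq (by norm_num)
  have b12 := sub_pos' (d := 12) hq (by norm_num)
  have hc0 : 0 < c := pos_of_dvd (by positivity) hd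
  have hs5 : 5 ≤ s := by
    have := lt_of_prim hs4
    omega
  have hx : s ∣ (p ^ f) ^ 4 - 1 := hs4.dvd dvd_rfl
  have h6 : Nat.gcd 4 ((p ^ (f * 2)) ^ 4 - 1) * c =
      (p ^ (f * 2)) ^ (4 * (4 - 1)) * (((p ^ (f * 2)) ^ 4 - 1) * prB (p ^ (f * 2)) (4 - 1)) := hc
  refine cancel_prime hs4.prime (Z := ((p ^ f) ^ 8 - 1) * ((p ^ f) ^ 12 - 1)) (by positivity) hc0
    (A := (p ^ (f * 2)) ^ (4 * (4 - 1)) * ((p ^ (f * 2)) ^ 4 - 1)) (x := (p ^ f) ^ 4 - 1)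
    (D := Nat.gcd 4 ((p ^ (f * 2)) ^ 4 - 1)) (B := (p ^ f) ^ N) ?_ hd hx
    (fun h => ?_) (hs4.not_dvd_pow _) hy
  · rw [h6, mul_assoc]
    congr 2
    show prB (p ^ (f * 2)) 3 = _
    rw [prB_three']
  · have := Nat.le_of_dvd (by norm_num) (h.trans (Nat.gcd_dvd_left _ _))
    omega

theorem kill4_psu (hc : den (.psu 4 (p ^ (f * 2))) * c = num (.psu 4 (p ^ (f * 2)))) : False := by
  have hq : 2 ≤ p ^ f := hp.two_le.trans (Nat.le_self_pow (by omega) _)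
  have b6 := sub_pos' (d := 6) hq (by norm_num)
  have b8 := sub_pos' (d := 8) hq (by norm_num)
  have b12 := sub_pos' (d := 12) hq (by norm_num)
  have hc0 : 0 < c := pos_of_dvd (by positivity) hd
  have hs5 : 5 ≤ s := by
    have := lt_of_prim hs4
    omega
  have hx : s ∣ (p ^ f) ^ 4 - 1 := hs4.dvd dvd_rfl
  have h6 : Nat.gcd 4 (p ^ (f * 2) + 1) * (p ^ (f * 2) + 1) * c =
      (p ^ (f * 2)) ^ (4 * (4 - 1) / 2) * prU (p ^ (f * 2)) 4 := hc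
  have hU : prU (p ^ (f * 2)) 4 = ((p ^ (f * 2)) ^ 1 + 1) * (((p ^ (f * 2)) ^ 2 - 1) * (((p ^ (f * 2)) ^ 3 + 1) *
    (((p ^ (f * 2)) ^ 4 - 1) * 1))) := rfl
  have e1 : (p ^ (f * 2)) ^ 2 = (p ^ f) ^ 4 := by rw [pow_mul, ← pow_mul]
  have e2 : (p ^ (f * 2)) ^ 4 = (p ^ f) ^ 8 := by rw [pow_mul, ← pow_mul]
  have e3 : (p ^ (f * 2)) ^ 3 = (p ^ f) ^ 6 := by rw [pow_mul, ← pow_mul]
  rw [hU, e1, e2, e3, pow_one, mul_one] at h6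
  refine cancel_prime hs4.prime (Z := ((p ^ f) ^ 8 - 1) * ((p ^ f) ^ 6 + 1)) (by positivity) hc0
    (A := (p ^ (f * 2)) ^ (4 * (4 - 1) / 2)) (x := (p ^ f) ^ 4 - 1) (D := Nat.gcd 4 (p ^ (f * 2) + 1))
    (B := (p ^ f) ^ N) (y := y * ((p ^ f) ^ 6 - 1)) ?_ ?_ hx
    (fun h => ?_) (hs4.not_dvd_pow _) (fun h => ?_)
  · apply Nat.eq_of_mul_eq_mul_left (show 0 < p ^ (f * 2) + 1 by omega)
    calc (p ^ (f * 2) + 1) * (Nat.gcd 4 (p ^ (f * 2) + 1) * c)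
        = Nat.gcd 4 (p ^ (f * 2) + 1) * (p ^ (f * 2) + 1) * c := by ring
      _ = _ := h6
      _ = _ := by ring
  · have h7 : (p ^ f) ^ 12 - 1 = ((p ^ f) ^ 6 - 1) * ((p ^ f) ^ 6 + 1) := by
      have := Nat.sq_sub_sq ((p ^ f) ^ 6) 1
      rw [one_pow, ← pow_mul] at this
      rw [mul_comm]
      exact this
    rw [h7] at hd
    refine hd.trans (dvd_of_eq ?_)
    ring
  · have := Nat.le_of_dvd (by norm_num) (h.trans (Nat.gcd_dvd_left _ _))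
    omega
  · rcases hs4.prime.dvd_mul.1 h with h | h
    · exact hy h
    · exact hs4.not_dvd_sub (by norm_num) h

end Kill

/-- **`E_6(q)`, classes 8 and 12.** -/
theorem charp_e6_812 (hp : p.Prime) (hf : 1 ≤ f) (hg : Cond g) (hch : HasChar p g)
    (hc : den g * c = num g) (hdvd : c ∣ num (.e6 (p ^ f))) (hs1 : HT p f 8 g c) (hs2 : HT p f 12 g c) :
    g = .e6 (p ^ f) ∨ g = .f4 (p ^ f) ∨ g = .psl 3 (p ^ (4 * f)) := by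
  obtain ⟨f₁, hf₁, hfl, hK, hY⟩ := kd_all hp hg hch hc
  obtain ⟨i, hi, hei, hfM, h2, h1, h3, hYc⟩ := compP hp hf hg hch hf₁ hfl hK hY (td_e6 hp hf hdvd)
    (by norm_num) (by norm_num) (by norm_num) (fun i hi hei s hs h5 => by
      have hi' : i ∈ [2, 5, 6, 8, 9, 12] := hi
      refine hpr_aux ?_ hs (by omega)
      simp only [List.mem_cons, List.not_mem_nil, or_false] at hi' ⊢
      omega) hs1 hs2
  have hq : 2 ≤ p ^ f := hp.two_le.trans (Nat.le_self_pow (by omega) _)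
  obtain ⟨s, hs4⟩ := exists_prim (q := p ^ f) (e := 4) hq (by norm_num) (by omega)
  have hd0 : c ∣ (p ^ f) ^ 36 * (((p ^ f) ^ 2 - 1) * ((p ^ f) ^ 5 - 1) * ((p ^ f) ^ 6 - 1) *
      ((p ^ f) ^ 8 - 1) * ((p ^ f) ^ 9 - 1) * ((p ^ f) ^ 12 - 1)) := hdvd
  have hd : c ∣ (p ^ f) ^ 36 * ((((p ^ f) ^ 2 - 1) * ((p ^ f) ^ 5 - 1) * ((p ^ f) ^ 6 - 1) * ((p ^ f) ^ 9 - 1)) *
      (((p ^ f) ^ 8 - 1) * ((p ^ f) ^ 12 - 1))) := hd0.trans (dvd_of_eq (by ring))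
  have b2 := sub_pos' (d := 2) hq (by norm_num)
  have b5 := sub_pos' (d := 5) hq (by norm_num)
  have b6 := sub_pos' (d := 6) hq (by norm_num)
  have b9 := sub_pos' (d := 9) hq (by norm_num)
  have hy0 : 0 < ((p ^ f) ^ 2 - 1) * ((p ^ f) ^ 5 - 1) * ((p ^ f) ^ 6 - 1) * ((p ^ f) ^ 9 - 1) := by positivity
  have hy : ¬ s ∣ ((p ^ f) ^ 2 - 1) * ((p ^ f) ^ 5 - 1) * ((p ^ f) ^ 6 - 1) * ((p ^ f) ^ 9 - 1) := fun h => by
    rcases hs4.prime.dvd_mul.1 h with h | h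
    · rcases hs4.prime.dvd_mul.1 h with h | h
      · rcases hs4.prime.dvd_mul.1 h with h | h
        · exact hs4.not_dvd_sub (by norm_num) h
        · exact hs4.not_dvd_sub (by norm_num) h
      · exact hs4.not_dvd_sub (by norm_num) h
    · exact hs4.not_dvd_sub (by norm_num) h
  rcases elimP_e6_8_12 hg hch hi hei h2 h1 h3 hYc with ⟨rfl, q, rfl⟩ | ⟨rfl, q, rfl⟩ | ⟨rfl, q, rfl⟩ |
    ⟨rfl, q, rfl⟩ | ⟨rfl, q, rfl⟩ | ⟨rfl, q, rfl⟩ | ⟨rfl, q, rfl⟩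
  · left
    obtain rfl : q = p ^ f₁ := hfl
    rw [same_fld (M := 12) (by norm_num) hfM]
  · right; left
    obtain rfl : q = p ^ f₁ := hfl
    rw [same_fld (M := 12) (by norm_num) hfM]
  · right; right
    obtain rfl : q = p ^ f₁ := hfl
    have h5 : f₁ * 3 = f * 12 := hfM
    obtain rfl : f₁ = 4 * f := by omega
    rfl
  · exfalso
    obtain rfl : q = p ^ f₁ := hfl
    have h5 : f₁ * (2 * 3) = f * 12 := hfM
    obtain rfl : f₁ = f * 2 := by omega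
    exact kill4_psp hp hf hs4 hy hy0 hd hc
  · exfalso
    obtain rfl : q = p ^ f₁ := hfl
    have h5 : f₁ * (2 * 3) = f * 12 := hfM
    obtain rfl : f₁ = f * 2 := by omega
    exact kill4_oodd hp hf hs4 hy hy0 hd hc
  · exfalso
    obtain rfl : q = p ^ f₁ := hfl
    have h5 : f₁ * 6 = f * 12 := hfM
    obtain rfl : f₁ = f * 2 := by omega
    exact kill4_psu hp hf hs4 hy hy0 hd hc
  · exfalso
    obtain rfl : q = p ^ f₁ := hfl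
    have h5 : f₁ * (2 * (4 - 1)) = f * 12 := hfM
    obtain rfl : f₁ = f * 2 := by omega
    exact kill4_oplus hp hf hs4 hy hy0 hd hc

/-- **`²E_6(q)`, classes 8 and 12.** -/
theorem charp_te6_812 (hp : p.Prime) (hf : 1 ≤ f) (hg : Cond g) (hch : HasChar p g)
    (hc : den g * c = num g) (hdvd : c ∣ num (.te6 (p ^ f))) (hs1 : HT p f 8 g c) (hs2 : HT p f 12 g c) :
    g = .te6 (p ^ f) ∨ g = .f4 (p ^ f) ∨ g = .psl 3 (p ^ (4 * f)) := by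
  obtain ⟨f₁, hf₁, hfl, hK, hY⟩ := kd_all hp hg hch hc
  obtain ⟨i, hi, hei, hfM, h2, h1, h3, hYc⟩ := compP hp hf hg hch hf₁ hfl hK hY (td_te6 hp hf hdvd)
    (by norm_num) (by norm_num) (by norm_num) (fun i hi hei s hs h5 => by
      have hi' : i ∈ [2, 10, 6, 8, 18, 12] := hi
      refine hpr_aux ?_ hs (by omega)
      simp only [List.mem_cons, List.not_mem_nil, or_false] at hi' ⊢
      omega) hs1 hs2
  have hq : 2 ≤ p ^ f := hp.two_le.trans (Nat.le_self_pow (by omega) _)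
  obtain ⟨t, hs0⟩ := exists_prim (q := p ^ f) (e := 5) hq (by norm_num) (by omega)
  have hn : ¬ t ∣ c := fun h => not_dvd_te6_5 hs0 (h.trans hdvd)
  obtain ⟨s, hs4⟩ := exists_prim (q := p ^ f) (e := 4) hq (by norm_num) (by omega)
  have hd0 : c ∣ (p ^ f) ^ 36 * (((p ^ f) ^ 2 - 1) * ((p ^ f) ^ 5 + 1) * ((p ^ f) ^ 6 - 1) *
      ((p ^ f) ^ 8 - 1) * ((p ^ f) ^ 9 + 1) * ((p ^ f) ^ 12 - 1)) := hdvd
  have hd : c ∣ (p ^ f) ^ 36 * ((((p ^ f) ^ 2 - 1) * ((p ^ f) ^ 10 - 1) * ((p ^ f) ^ 6 - 1) * ((p ^ f) ^ 18 - 1)) *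
      (((p ^ f) ^ 8 - 1) * ((p ^ f) ^ 12 - 1))) := by
    refine hd0.trans (Nat.mul_dvd_mul_left _ ?_)
    have e : (((p ^ f) ^ 2 - 1) * ((p ^ f) ^ 5 + 1) * ((p ^ f) ^ 6 - 1) *
      ((p ^ f) ^ 8 - 1) * ((p ^ f) ^ 9 + 1) * ((p ^ f) ^ 12 - 1)) = (((p ^ f) ^ 2 - 1) * ((p ^ f) ^ 5 + 1) *
      ((p ^ f) ^ 6 - 1) * ((p ^ f) ^ 9 + 1)) * (((p ^ f) ^ 8 - 1) * ((p ^ f) ^ 12 - 1)) := by ring
    rw [e]
    refine Nat.mul_dvd_mul_right ?_ _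
    exact Nat.mul_dvd_mul (Nat.mul_dvd_mul_right (Nat.mul_dvd_mul_left _ (add_dvd (p ^ f) 5)) _) (add_dvd (p ^ f) 9)
  have b2 := sub_pos' (d := 2) hq (by norm_num)
  have b10 := sub_pos' (d := 10) hq (by norm_num)
  have b6 := sub_pos' (d := 6) hq (by norm_num)
  have b18 := sub_pos' (d := 18) hq (by norm_num)
  have hy0 : 0 < ((p ^ f) ^ 2 - 1) * ((p ^ f) ^ 10 - 1) * ((p ^ f) ^ 6 - 1) * ((p ^ f) ^ 18 - 1) := by positivity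
  have hy : ¬ s ∣ ((p ^ f) ^ 2 - 1) * ((p ^ f) ^ 10 - 1) * ((p ^ f) ^ 6 - 1) * ((p ^ f) ^ 18 - 1) := fun h => by
    rcases hs4.prime.dvd_mul.1 h with h | h
    · rcases hs4.prime.dvd_mul.1 h with h | h
      · rcases hs4.prime.dvd_mul.1 h with h | h
        · exact hs4.not_dvd_sub (by norm_num) h
        · exact hs4.not_dvd_sub (by norm_num) h
      · exact hs4.not_dvd_sub (by norm_num) h
    · exact hs4.not_dvd_sub (by norm_num) h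
  rcases elimP_te6_8_12 hg hch hi hei h2 h1 h3 hYc with ⟨rfl, q, rfl⟩ | ⟨rfl, q, rfl⟩ | ⟨rfl, q, rfl⟩ |
    ⟨rfl, q, rfl⟩ | ⟨rfl, q, rfl⟩ | ⟨rfl, q, rfl⟩ | ⟨rfl, q, rfl⟩ | ⟨rfl, q, rfl⟩ | ⟨rfl, q, rfl⟩ | ⟨rfl, q, rfl⟩ |
    ⟨rfl, q, rfl⟩ | ⟨rfl, q, rfl⟩
  · left
    obtain rfl : q = p ^ f₁ := hfl
    rw [same_fld (M := 18) (by norm_num) hfM]
  · right; left
    obtain rfl : q = p ^ f₁ := hfl
    rw [same_fld (M := 12) (by norm_num) hfM]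
  · right; right
    obtain rfl : q = p ^ f₁ := hfl
    have h5 : f₁ * 3 = f * 12 := hfM
    obtain rfl : f₁ = 4 * f := by omega
    rfl
  · exfalso
    obtain rfl : q = p ^ f₁ := hfl
    have h5 : f₁ * (2 * 3) = f * 12 := hfM
    obtain rfl : f₁ = f * 2 := by omega
    exact kill4_psp hp hf hs4 hy hy0 hd hc
  · exfalso
    obtain rfl : q = p ^ f₁ := hfl
    have h5 : f₁ * (2 * 3) = f * 12 := hfM
    obtain rfl : f₁ = f * 2 := by omega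
    exact kill4_oodd hp hf hs4 hy hy0 hd hc
  · exfalso
    obtain rfl : q = p ^ f₁ := hfl
    have h5 : f₁ * 6 = f * 12 := hfM
    obtain rfl : f₁ = f * 2 := by omega
    exact kill4_psu hp hf hs4 hy hy0 hd hc
  · exfalso
    obtain rfl : q = p ^ f₁ := hfl
    have h5 : f₁ * (2 * (4 - 1)) = f * 12 := hfM
    obtain rfl : f₁ = f * 2 := by omega
    exact kill4_oplus hp hf hs4 hy hy0 hd hc
  · exfalso
    obtain rfl : q = p ^ f₁ := hfl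
    have h5 : f₁ * 6 = f * 12 := hfM
    have h6 := Cfsg.Agent.H425.Chr.prim_quot (f := 2) (by norm_num) hs0
    rw [← pow_mul, show f * 2 = f₁ by omega] at h6
    exact hn (psl_prim (e := 5) (by norm_num) (by norm_num) hc h6)
  · exfalso
    obtain rfl : q = p ^ f₁ := hfl
    have h5 : f₁ * (2 * 6) = f * 12 := hfM
    obtain rfl : f₁ = f := by omega
    exact hn (psp_prim (e := 5) 5 (by norm_num) (by norm_num) (by norm_num) (by norm_num) hc hs0)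
  · exfalso
    obtain rfl : q = p ^ f₁ := hfl
    have h5 : f₁ * (2 * 6) = f * 12 := hfM
    obtain rfl : f₁ = f := by omega
    exact hn (oodd_prim (e := 5) 5 (by norm_num) (by norm_num) (by norm_num) (by norm_num) hc hs0)
  · exfalso
    obtain rfl : q = p ^ f₁ := hfl
    have h5 : f₁ * (2 * 6) = f * 12 := hfM
    obtain rfl : f₁ = f := by omega
    exact hn (ominus_prim 5 (by norm_num) (by norm_num) (by norm_num) (by norm_num) hc hs0)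
  · exfalso
    obtain rfl : q = p ^ f₁ := hfl
    obtain rfl := same_fld (M := 12) (by norm_num) hfM
    have h6 : Nat.gcd 3 (p ^ f₁ - 1) * c = (p ^ f₁) ^ 36 * (((p ^ f₁) ^ 2 - 1) * ((p ^ f₁) ^ 5 - 1) * ((p ^ f₁) ^ 6 - 1) *
      ((p ^ f₁) ^ 8 - 1) * ((p ^ f₁) ^ 9 - 1) * ((p ^ f₁) ^ 12 - 1)) := hc
    have h7 : t ∣ Nat.gcd 3 (p ^ f₁ - 1) * c := by
      rw [h6]
      exact ((((((hs0.dvd dvd_rfl).mul_left _).mul_right _).mul_right _).mul_right _).mul_right _).mul_left _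
    rcases hs0.prime.dvd_mul.1 h7 with h | h
    · have h8 := Nat.le_of_dvd (by norm_num) (h.trans (Nat.gcd_dvd_left _ _))
      have := lt_of_prim hs0
      omega
    · exact hn h

end Cfsg.Agent.H325.Same
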