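import Mathlib
import Cfsg.Agent.H264.FKS.Rows
import Cfsg.Agent.H325.Same.ExcChar

/-!
# Almost simple subgroups `R` of `T = E6(q), 2E6(q), E7(q), E8(q)` with socle of Lie type in the characteristic of `T`
and `π(R) = π(T)`: `R = T` (helper325)
-/

set_option autoImplicit false

namespace Cfsg.Agent.H325.Same

open Cfsg Cfsg.Agent.OrdDiv Cfsg.Agent.H436 Cfsg.Agent.H915.GN Cfsg.Agent.H264.GN Cfsg.Agent.H264.FKS

universe u

variable {p f : ℕ} {g : Grp}

/-! ### primes of the exceptional groups -/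

theorem dvd_e8 {T : Type*} [Group T] (hT : IsNamed (.e8 (p ^ f)) T) {e s d : ℕ} (_he : 3 ≤ e)
    (hs : Prim (p ^ f) e s) (hd : d ∈ [2, 8, 12, 14, 18, 20, 24, 30]) (hed : e ∣ d) : s ∣ Nat.card T := by
  refine H264.FKS.IsNamed.dvd hT hs.prime ?_ ?_
  · show s ∣ (p ^ f) ^ 120 * (((p ^ f) ^ 2 - 1) * ((p ^ f) ^ 8 - 1) * ((p ^ f) ^ 12 - 1) *
      ((p ^ f) ^ 14 - 1) * ((p ^ f) ^ 18 - 1) * ((p ^ f) ^ 20 - 1) * ((p ^ f) ^ 24 - 1) *
      ((p ^ f) ^ 30 - 1))
    refine Dvd.dvd.mul_left ?_ _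
    have h1 := (hs.dvd hed).trans (List.dvd_prod (List.mem_map_of_mem (f := fun d => (p ^ f) ^ d - 1) hd))
    simp only [List.map_cons, List.map_nil, List.prod_cons, List.prod_nil, mul_one] at h1
    simp only [mul_assoc]
    exact h1
  · show ¬ s ∣ 1
    exact hs.prime.one_lt.ne' ∘ Nat.dvd_one.1

theorem dvd_e7 {T : Type*} [Group T] (hT : IsNamed (.e7 (p ^ f)) T) {e s d : ℕ} (he : 3 ≤ e)
    (hs : Prim (p ^ f) e s) (hd : d ∈ [2, 6, 8, 10, 12, 14, 18]) (hed : e ∣ d) : s ∣ Nat.card T := by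
  refine H264.FKS.IsNamed.dvd hT hs.prime ?_
    (not_dvd_gcd (a := 2) (five_le_of_prim he hs) (by norm_num) (by norm_num))
  show s ∣ (p ^ f) ^ 63 * (((p ^ f) ^ 2 - 1) * ((p ^ f) ^ 6 - 1) *
      ((p ^ f) ^ 8 - 1) * ((p ^ f) ^ 10 - 1) * ((p ^ f) ^ 12 - 1) * ((p ^ f) ^ 14 - 1) *
      ((p ^ f) ^ 18 - 1))
  refine Dvd.dvd.mul_left ?_ _
  have h1 := (hs.dvd hed).trans (List.dvd_prod (List.mem_map_of_mem (f := fun d => (p ^ f) ^ d - 1) hd))
  simp only [List.map_cons, List.map_nil, List.prod_cons, List.prod_nil, mul_one] at h1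
  simp only [mul_assoc]
  exact h1

theorem dvd_e6 {T : Type*} [Group T] (hT : IsNamed (.e6 (p ^ f)) T) {e s d : ℕ} (he : 3 ≤ e)
    (hs : Prim (p ^ f) e s) (hd : d ∈ [2, 5, 6, 8, 9, 12]) (hed : e ∣ d) : s ∣ Nat.card T := by
  refine H264.FKS.IsNamed.dvd hT hs.prime ?_
    (not_dvd_gcd (a := 3) (five_le_of_prim he hs) (by norm_num) (by norm_num))
  show s ∣ (p ^ f) ^ 36 * (((p ^ f) ^ 2 - 1) * ((p ^ f) ^ 5 - 1) * ((p ^ f) ^ 6 - 1) *
      ((p ^ f) ^ 8 - 1) * ((p ^ f) ^ 9 - 1) * ((p ^ f) ^ 12 - 1))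
  refine Dvd.dvd.mul_left ?_ _
  have h1 := (hs.dvd hed).trans (List.dvd_prod (List.mem_map_of_mem (f := fun d => (p ^ f) ^ d - 1) hd))
  simp only [List.map_cons, List.map_nil, List.prod_cons, List.prod_nil, mul_one] at h1
  simp only [mul_assoc]
  exact h1

theorem dvd_te6 {T : Type*} [Group T] (hT : IsNamed (.te6 (p ^ f)) T) {e s : ℕ} (he : 3 ≤ e)
    (hs : Prim (p ^ f) e s) (hd : e ∣ 6 ∨ e ∣ 8 ∨ e ∣ 12 ∨ e = 10 ∨ e = 18) : s ∣ Nat.card T := by
  refine H264.FKS.IsNamed.dvd hT hs.prime ?_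
    (not_dvd_gcd (a := 3) (five_le_of_prim he hs) (by norm_num) (by norm_num))
  show s ∣ (p ^ f) ^ 36 * (((p ^ f) ^ 2 - 1) * ((p ^ f) ^ 5 + 1) * ((p ^ f) ^ 6 - 1) *
      ((p ^ f) ^ 8 - 1) * ((p ^ f) ^ 9 + 1) * ((p ^ f) ^ 12 - 1))
  refine Dvd.dvd.mul_left ?_ _
  rcases hd with hd | hd | hd | rfl | rfl
  · exact (hs.dvd hd).trans ((Dvd.intro_left _ rfl).trans ((Dvd.intro _ rfl).trans ((Dvd.intro _ rfl).trans
      (Dvd.intro _ rfl))))
  · exact (hs.dvd hd).trans ((Dvd.intro_left _ rfl).trans ((Dvd.intro _ rfl).trans (Dvd.intro _ rfl)))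
  · exact (hs.dvd hd).trans (Dvd.intro_left _ rfl)
  · have h1 : s ∣ (p ^ f) ^ 5 + 1 := hs.dvd_add (by norm_num) (by norm_num)
    exact h1.trans ((Dvd.intro_left _ rfl).trans ((Dvd.intro _ rfl).trans ((Dvd.intro _ rfl).trans
      ((Dvd.intro _ rfl).trans (Dvd.intro _ rfl)))))
  · have h1 : s ∣ (p ^ f) ^ 9 + 1 := hs.dvd_add (by norm_num) (by norm_num)
    exact h1.trans ((Dvd.intro_left _ rfl).trans (Dvd.intro _ rfl))

/-! ### the rows -/

section

variable {T : Type u} [Group T] [Finite T] {R : Subgroup T}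

/-- **`T = E_8(q)`: no proper almost simple subgroup `R` with `π(R) = π(T)` and socle in characteristic `p`.** -/
theorem row_e8 (hT : IsNamed (.e8 (p ^ f)) T) (hp : p.Prime) (hf : 1 ≤ f)
    (hfull : Full T R) (S : Subgroup R) [S.Normal] [IsSimpleGroup S] (hna : ¬ IsMulCommutative S)
    (hC : Subgroup.centralizer (S : Set R) = ⊥) (hS : IsNamed g S) (hch : HasChar p g) : R = ⊤ := by
  have h := charp_e8 hp hf hS.cond hch hS.eq (IsNamed.card_dvd hT S)
    (HS.of S hna hC hp hS hch (by omega) fun s hs => hfull s hs.prime (dvd_e8 hT (by omega) hs (d := 30) (by decide) dvd_rfl))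
    (HS.of S hna hC hp hS hch (by omega) fun s hs => hfull s hs.prime (dvd_e8 hT (by omega) hs (d := 24) (by decide) dvd_rfl))
    (HS.of S hna hC hp hS hch (by omega) fun s hs => hfull s hs.prime (dvd_e8 hT (by omega) hs (d := 20) (by decide) dvd_rfl))
  subst h
  exact eq_top_of_name hT hS

/-- **`T = E_7(q)`.** -/
theorem row_e7 (hT : IsNamed (.e7 (p ^ f)) T) (hp : p.Prime) (hf : 1 ≤ f)
    (hfull : Full T R) (S : Subgroup R) [S.Normal] [IsSimpleGroup S] (hna : ¬ IsMulCommutative S)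
    (hC : Subgroup.centralizer (S : Set R) = ⊥) (hS : IsNamed g S) (hch : HasChar p g) : R = ⊤ := by
  have h := charp_e7 hp hf hS.cond hch hS.eq (IsNamed.card_dvd hT S)
    (HS.of S hna hC hp hS hch (by omega) fun s hs => hfull s hs.prime (dvd_e7 hT (by omega) hs (d := 18) (by decide) dvd_rfl))
    (HS.of S hna hC hp hS hch (by omega) fun s hs => hfull s hs.prime (dvd_e7 hT (by omega) hs (d := 14) (by decide) dvd_rfl))
    (HS.of S hna hC hp hS hch (by omega) fun s hs => hfull s hs.prime (dvd_e7 hT (by omega) hs (d := 12) (by decide) dvd_rfl))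
  subst h
  exact eq_top_of_name hT hS

/-- **`T = E_6(q)`.** -/
theorem row_e6 (hT : IsNamed (.e6 (p ^ f)) T) (hp : p.Prime) (hf : 1 ≤ f)
    (hfull : Full T R) (S : Subgroup R) [S.Normal] [IsSimpleGroup S] (hna : ¬ IsMulCommutative S)
    (hC : Subgroup.centralizer (S : Set R) = ⊥) (hS : IsNamed g S) (hch : HasChar p g) : R = ⊤ := by
  have h := charp_e6 hp hf hS.cond hch hS.eq (IsNamed.card_dvd hT S)
    (HS.of S hna hC hp hS hch (by omega) fun s hs => hfull s hs.prime (dvd_e6 hT (by omega) hs (d := 12) (by decide) dvd_rfl))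
    (HS.of S hna hC hp hS hch (by omega) fun s hs => hfull s hs.prime (dvd_e6 hT (by omega) hs (d := 9) (by decide) dvd_rfl))
    (HS.of S hna hC hp hS hch (by omega) fun s hs => hfull s hs.prime (dvd_e6 hT (by omega) hs (d := 8) (by decide) dvd_rfl))
  subst h
  exact eq_top_of_name hT hS

/-- **`T = ²E_6(q)`.** -/
theorem row_te6 (hT : IsNamed (.te6 (p ^ f)) T) (hp : p.Prime) (hf : 1 ≤ f)
    (hfull : Full T R) (S : Subgroup R) [S.Normal] [IsSimpleGroup S] (hna : ¬ IsMulCommutative S)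
    (hC : Subgroup.centralizer (S : Set R) = ⊥) (hS : IsNamed g S) (hch : HasChar p g) : R = ⊤ := by
  have h := charp_te6 hp hf hS.cond hch hS.eq (IsNamed.card_dvd hT S)
    (HS.of S hna hC hp hS hch (by omega) fun s hs => hfull s hs.prime (dvd_te6 hT (by omega) hs (by norm_num)))
    (HS.of S hna hC hp hS hch (by omega) fun s hs => hfull s hs.prime (dvd_te6 hT (by omega) hs (by norm_num)))
    (HS.of S hna hC hp hS hch (by omega) fun s hs => hfull s hs.prime (dvd_te6 hT (by omega) hs (by norm_num)))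
  subst h
  exact eq_top_of_name hT hS

end

end Cfsg.Agent.H325.Same
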